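import Cfsg.Agent.Omega.NO1End.Surj
import Mathlib.GroupTheory.Index

/-!
# NO-1, END, `q = 2`, type `O₄⁻(2)` (text #12702, steps (9), (11)), helper203

If no conjugate of `z 0` other than `z 0` lies in `V ∩ Q 0`, then `z 0` is weakly closed in `Q 0`.
-/

set_option autoImplicit false

namespace Cfsg.Agent.Omega.NO1End.Surj.Five

open Subgroup Cfsg.Agent.Co2Type.Quad
open Cfsg.Agent.Omega.NOne.DZero Cfsg.Agent.Omega.NOne.DZeroPts

variable {G : Type*} [Group G]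

theorem inv_comm' {r a : G} (h : r * a = a * r) : r⁻¹ * a = a * r⁻¹ := by
  calc r⁻¹ * a = r⁻¹ * (a * r) * r⁻¹ := by group
    _ = r⁻¹ * (r * a) * r⁻¹ := by rw [h]
    _ = a * r⁻¹ := by group

theorem comm_of_sq {a b : G} (ha : a * a = 1) (hb : b * b = 1) (hab : a * b * (a * b) = 1) :
    a * b = b * a := by
  have e1 : a⁻¹ = a := inv_eq_of_mul_eq_one_left ha
  have e2 : b⁻¹ = b := inv_eq_of_mul_eq_one_left hb
  have e3 : (a * b)⁻¹ = a * b := inv_eq_of_mul_eq_one_left hab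
  rw [← e3, mul_inv_rev, e1, e2]

variable {M V : Subgroup G} {z : Fin 5 → G} {Q : Fin 5 → Subgroup G} (h : Five M V z Q)
include h

/-- `V ∩ Q i ≤ R i` -/
theorem E_le_R {i : Fin 5} {e : G} (he : e ∈ V) (heQ : e ∈ Q i) : e ∈ h.R i :=
  h.mem_R.2 ⟨heQ, fun _ hv => h.Vcomm he hv⟩

theorem exists_conj (i j : Fin 5) : ∃ m ∈ M, m * z i * m⁻¹ = z j := by
  obtain ⟨a, k, l, hik, hal⟩ : ∃ a k l : Fin 5, [a, i, k].Nodup ∧ [a, j, l].Nodup := by
    have : ∀ i j : Fin 5, ∃ a k l : Fin 5, [a, i, k].Nodup ∧ [a, j, l].Nodup := by decide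
    exact this i j
  obtain ⟨τ, -, h2, -, h4⟩ := two_trans a i k j l hik hal
  obtain ⟨m, hm, hmz⟩ := h.alt τ h4
  exact ⟨m, hm, by rw [hmz, h2]⟩

theorem map_R {m : G} (hm : m ∈ M) {i j : Fin 5} (hij : m * z i * m⁻¹ = z j) :
    (h.R i).map (MulAut.conj m).toMonoidHom = h.R j := by
  apply le_antisymm
  · rintro _ ⟨x, hx, rfl⟩
    exact h.conjR hm hij hx
  · intro y hy
    have hji : m⁻¹ * z j * m⁻¹⁻¹ = z i := by rw [← hij]; group
    refine ⟨m⁻¹ * y * m⁻¹⁻¹, h.conjR (inv_mem hm) hji hy, ?_⟩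
    change m * (m⁻¹ * y * m⁻¹⁻¹) * m⁻¹ = y
    group

theorem map_E {m : G} (hm : m ∈ M) {i j : Fin 5} (hij : m * z i * m⁻¹ = z j) :
    (V ⊓ Q i).map (MulAut.conj m).toMonoidHom = V ⊓ Q j := by
  have key : ∀ m ∈ M, ∀ i j, m * z i * m⁻¹ = z j → ∀ x ∈ V ⊓ Q i, m * x * m⁻¹ ∈ V ⊓ Q j := by
    intro m hm i j hij x hx
    exact ⟨(mem_normalizer_iff.1 (h.MV hm) x).1 hx.1, h.conjQ m hm i j hij x hx.2⟩
  apply le_antisymm
  · rintro _ ⟨x, hx, rfl⟩
    exact key m hm i j hij x hx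
  · intro y hy
    have hji : m⁻¹ * z j * m⁻¹⁻¹ = z i := by rw [← hij]; group
    refine ⟨m⁻¹ * y * m⁻¹⁻¹, key _ (inv_mem hm) j i hji y hy, ?_⟩
    change m * (m⁻¹ * y * m⁻¹⁻¹) * m⁻¹ = y
    group

theorem relIndex_eq (i j : Fin 5) : (V ⊓ Q i).relIndex (h.R i) = (V ⊓ Q j).relIndex (h.R j) := by
  obtain ⟨m, hm, hij⟩ := h.exists_conj i j
  rw [← h.map_R hm hij, ← h.map_E hm hij]
  exact (Subgroup.relIndex_map_map_of_injective _ _ (MulAut.conj m).injective).symm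

/-- `x⁻¹ r⁻¹ x r ∈ R i` for `x ∈ Q i`, `r ∈ R j` -/
theorem phi_mem {i j : Fin 5} {x r : G} (hx : x ∈ Q i) (hr : r ∈ h.R j) :
    x⁻¹ * r⁻¹ * x * r ∈ h.R i := by
  have hrc := (h.mem_R.1 hr).2
  refine h.mem_R.2 ⟨?_, fun v hv => ?_⟩
  · have h1 := h.norm_Q' (i := i) (hrc _ (h.mem i)) hx
    have e : x⁻¹ * r⁻¹ * x * r = x⁻¹ * (r⁻¹ * x * r) := by group
    rw [e]
    exact mul_mem (inv_mem hx) h1
  · have h1 : x * v * x⁻¹ ∈ V := (mem_normalizer_iff.1 (h.MV (h.QM i hx)) v).1 hv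
    have h2 := hrc _ h1
    have h3 : r⁻¹ * (x * v * x⁻¹) = x * v * x⁻¹ * r⁻¹ := inv_comm' h2
    calc x⁻¹ * r⁻¹ * x * r * v = x⁻¹ * r⁻¹ * x * (r * v) := by group
      _ = x⁻¹ * (r⁻¹ * (x * v * x⁻¹)) * x * r := by rw [hrc v hv]; group
      _ = v * (x⁻¹ * r⁻¹ * x * r) := by rw [h3]; group

/-- injectivity: `a ∈ R j`, `a ∈ (x⁻¹ a x) V` implies `a ∈ V` -/
theorem mem_V_of_phi {i j : Fin 5} (hij : i ≠ j) {x : G} (hx : x ∈ Q i) (hxR : x ∉ h.R i) {a : G}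
    (ha : a ∈ h.R j) (hv : (x⁻¹ * a * x)⁻¹ * a ∈ V) : a ∈ V := by
  obtain ⟨σ, hσ⟩ := h.perm x⁻¹ (inv_mem (h.QM i hx))
  set k := σ j with hk
  have hxj : x⁻¹ * z j * x⁻¹⁻¹ = z k := hσ j
  have hkj : k ≠ j := by
    intro hkj
    apply hxR
    refine h.mem_R.2 ⟨hx, h.cent_of_fix (Ne.symm hij) hx ?_⟩
    rw [hkj] at hxj
    apply conj_comm
    calc x * z j * x⁻¹ = x * (x⁻¹ * z j * x⁻¹⁻¹) * x⁻¹ := by rw [hxj]
      _ = z j := by group
  have hb : x⁻¹ * a * x ∈ h.R k := by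
    have h1 := h.conjR (inv_mem (h.QM i hx)) hxj ha
    rwa [inv_inv] at h1
  -- `v = b⁻¹ a ∈ V = E j ∪ E j z k`
  set v := (x⁻¹ * a * x)⁻¹ * a with hvdef
  have hzkQ : z k ∈ Q k := (h.large k).z_mem
  have hcase : v ∈ Q j ∨ v * z k ∈ Q j := by
    have hjk : ∀ l, l ≠ j → l ≠ k → z l * z k ∈ Q j := fun l h1 h2 => h.pair j l k h1 hkj h2
    rcases h.gen v hv with h1 | ⟨l, h1⟩ | ⟨l, m, hlm, h1⟩
    · left; rw [h1]; exact one_mem _
    · rw [h1]
      by_cases hlj : l = j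
      · left; rw [hlj]; exact (h.large j).z_mem
      right
      by_cases hlk : l = k
      · rw [hlk, h.sq]; exact one_mem _
      · exact hjk l hlj hlk
    · rw [h1]
      by_cases hlj : l = j
      · right
        subst hlj
        by_cases hmk : m = k
        · rw [hmk, mul_assoc, h.sq, mul_one]; exact (h.large l).z_mem
        · rw [mul_assoc]
          exact mul_mem (h.large l).z_mem (hjk m (Ne.symm hlm) hmk)
      by_cases hmj : m = j
      · right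
        subst hmj
        by_cases hlk : l = k
        · rw [hlk, h.comm k m, mul_assoc, h.sq, mul_one]; exact (h.large m).z_mem
        · rw [h.comm l m, mul_assoc]
          exact mul_mem (h.large m).z_mem (hjk l hlj hlk)
      · left; exact h.pair j l m hlj hmj hlm
  rcases hcase with h1 | h1
  · -- `a v⁻¹ = b ∈ R j ∩ R k`
    have h2 : x⁻¹ * a * x ∈ h.R j := by
      have e : x⁻¹ * a * x = a * v⁻¹ := by rw [hvdef]; group
      rw [e]
      exact mul_mem ha (inv_mem (h.E_le_R hv h1))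
    have h3 := h.R_inf hkj hb h2
    have e : a = x⁻¹ * a * x * v := by rw [hvdef]; group
    rw [e]
    exact mul_mem h3 hv
  · -- `a (v z k)⁻¹ = b z k ∈ R j ∩ R k`
    have hvz : v * z k ∈ V := mul_mem hv (h.mem k)
    have h2 : a * (v * z k)⁻¹ ∈ h.R j := mul_mem ha (inv_mem (h.E_le_R hvz h1))
    have h3 : a * (v * z k)⁻¹ ∈ h.R k := by
      have e : a * (v * z k)⁻¹ = x⁻¹ * a * x * z k := by
        have hzv : v * z k = z k * v := h.Vcomm hv (h.mem k)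
        rw [hzv, mul_inv_rev, h.zinv k, hvdef]
        group
      rw [e]
      exact mul_mem hb (h.E_le_R (h.mem k) hzkQ)
    have h4 := h.R_inf hkj h3 h2
    have e : a = a * (v * z k)⁻¹ * (v * z k) := by group
    rw [e]
    exact mul_mem h4 hvz

variable [Finite G]

/-- **(9)**: every element of `x R i` is an `R j`-conjugate of `x` modulo `V ∩ Q i`. -/
theorem surj {i j : Fin 5} (hij : i ≠ j) {x : G} (hx : x ∈ Q i) (hxR : x ∉ h.R i) {w : G}
    (hw : w ∈ h.R i) : ∃ r ∈ h.R j, ∃ e ∈ V ⊓ Q i, r⁻¹ * x * r = x * w * e := by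
  classical
  let Ei : Subgroup (h.R i) := (V ⊓ Q i).subgroupOf (h.R i)
  let Ej : Subgroup (h.R j) := (V ⊓ Q j).subgroupOf (h.R j)
  let f : (h.R j) ⧸ Ej → (h.R i) ⧸ Ei := fun q =>
    ((⟨x⁻¹ * (q.out : G)⁻¹ * x * (q.out : G), h.phi_mem hx q.out.2⟩ : h.R i) : (h.R i) ⧸ Ei)
  have hf : Function.Injective f := by
    intro p q hpq
    have h1 := QuotientGroup.eq.1 hpq
    rw [mem_subgroupOf] at h1
    have h1' := (mem_inf.1 h1).1
    set r : G := (p.out : G) with hr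
    set s : G := (q.out : G) with hs
    have hrR : r ∈ h.R j := p.out.2
    have hsR : s ∈ h.R j := q.out.2
    have hrV := (h.mem_R.1 hrR).2
    have hsV := (h.mem_R.1 hsR).2
    have h2 : (x⁻¹ * r⁻¹ * x * r)⁻¹ * (x⁻¹ * s⁻¹ * x * s) ∈ V := h1'
    -- `a = s r⁻¹`
    have h3 : (x⁻¹ * (s * r⁻¹) * x)⁻¹ * (s * r⁻¹) ∈ V := by
      have e1 : (x⁻¹ * (s * r⁻¹) * x)⁻¹ * (s * r⁻¹) =
          r * ((x⁻¹ * r⁻¹ * x * r)⁻¹ * (x⁻¹ * s⁻¹ * x * s)) * r⁻¹ := by group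
      rw [e1, hrV _ h2, mul_assoc, mul_inv_cancel, mul_one]
      exact h2
    have h4 := h.mem_V_of_phi hij hx hxR (mul_mem hsR (inv_mem hrR)) h3
    have h5 : r⁻¹ * s ∈ V := by
      have e : r⁻¹ * s = r⁻¹ * (s * r⁻¹) * r := by group
      have h6 := hrV _ h4
      rw [e, mul_assoc, ← h6, ← mul_assoc, inv_mul_cancel, one_mul]
      exact h4
    have h6 : p.out⁻¹ * q.out ∈ Ej := by
      have h7 : r⁻¹ * s ∈ Q j := mul_mem (inv_mem (h.mem_R.1 hrR).1) (h.mem_R.1 hsR).1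
      rw [mem_subgroupOf]
      exact mem_inf.2 ⟨h5, h7⟩
    rw [← QuotientGroup.out_eq' p, ← QuotientGroup.out_eq' q]
    exact QuotientGroup.eq.2 h6
  have hcard : Nat.card ((h.R i) ⧸ Ei) ≤ Nat.card ((h.R j) ⧸ Ej) := by
    have := h.relIndex_eq i j
    unfold relIndex at this
    rw [index, index] at this
    exact this.le
  have hb := hf.bijective_of_nat_card_le hcard
  obtain ⟨q, hq⟩ := hb.2 ((⟨w, hw⟩ : h.R i) : (h.R i) ⧸ Ei)
  have h1 := QuotientGroup.eq.1 hq.symm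
  rw [mem_subgroupOf] at h1
  refine ⟨(q.out : G), q.out.2, _, h1, ?_⟩
  change _ = x * w * (w⁻¹ * (x⁻¹ * (q.out : G)⁻¹ * x * (q.out : G)))
  group

/-- **(9), second form** -/
theorem cover {i j : Fin 5} (hij : i ≠ j) {t e' : G} (ht : t ∈ Q i) (htR : t ∉ h.R i) (he' : e' ∈ Q i)
    (hte : t * z j * t⁻¹ = e' * z j * e'⁻¹) :
    ∃ r ∈ h.R j, ∃ e ∈ V ⊓ Q i, r⁻¹ * t * r = e' * e := by
  have h1 : t⁻¹ * e' ∈ h.R i := by
    refine h.mem_R.2 ⟨mul_mem (inv_mem ht) he', ?_⟩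
    refine h.cent_of_fix (Ne.symm hij) (mul_mem (inv_mem ht) he') ?_
    apply conj_comm
    calc t⁻¹ * e' * z j * (t⁻¹ * e')⁻¹ = t⁻¹ * (e' * z j * e'⁻¹) * t := by group
      _ = t⁻¹ * (t * z j * t⁻¹) * t := by rw [hte]
      _ = z j := by group
  obtain ⟨r, hr, e, he, h2⟩ := h.surj hij ht htR h1
  exact ⟨r, hr, e, he, by rw [h2]; group⟩

/-- **(11)**: `z i` is weakly closed in `Q i`, if this is true in `V ∩ Q i`. -/
theorem weak {i : Fin 5} (hE : ∀ g : G, g * z i * g⁻¹ ∈ V → g * z i * g⁻¹ ∈ Q i → g * z i * g⁻¹ = z i)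
    (hgen : ∀ t ∈ Q i, t ≠ 1 → t ≠ z i → ∃ c : G, c * z i = z i * c ∧ ∃ e ∈ V ⊓ Q i,
      t * (c * e * c⁻¹) ≠ c * e * c⁻¹ * t)
    (hmov : ∃ c : G, c * z i = z i * c ∧ ∃ e ∈ V ⊓ Q i, c * e * c⁻¹ ∉ h.R i)
    {g : G} (hg : g * z i * g⁻¹ ∈ Q i) : g * z i * g⁻¹ = z i := by
  by_contra hne
  have hcinv : ∀ {c : G}, c * z i = z i * c → c⁻¹ * z i = z i * c⁻¹ := by
    intro c hc
    rw [inv_mul_eq_iff_eq_mul, ← mul_assoc, hc, mul_assoc, mul_inv_cancel, mul_one]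
  have hcmul : ∀ {c d : G}, c * z i = z i * c → d * z i = z i * d → c * d * z i = z i * (c * d) := by
    intro c d hc hd
    rw [mul_assoc, hd, ← mul_assoc, hc, mul_assoc]
  -- `t₀ = g z g⁻¹`; replace it by a conjugate outside `R i`
  have ht1 : g * z i * g⁻¹ ≠ 1 := by
    intro h1
    apply h.ne_one i
    calc z i = g⁻¹ * (g * z i * g⁻¹) * g := by group
      _ = 1 := by rw [h1]; group
  obtain ⟨c, hc, e₀, he₀, hce⟩ := hgen _ hg ht1 hne
  set t := (c⁻¹ * g) * z i * (c⁻¹ * g)⁻¹ with ht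
  have htt : t = c⁻¹ * (g * z i * g⁻¹) * c := by rw [ht]; group
  have htQ : t ∈ Q i := by rw [htt]; exact h.norm_Q' hc hg
  have htR : t ∉ h.R i := by
    intro h1
    apply hce
    have h2 := (h.mem_R.1 h1).2 _ he₀.1
    rw [htt] at h2
    calc g * z i * g⁻¹ * (c * e₀ * c⁻¹) = c * (c⁻¹ * (g * z i * g⁻¹) * c * e₀) * c⁻¹ := by group
      _ = c * (e₀ * (c⁻¹ * (g * z i * g⁻¹) * c)) * c⁻¹ := by rw [h2]
      _ = c * e₀ * c⁻¹ * (g * z i * g⁻¹) := by group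
  have htz : t ≠ z i := by
    intro h1
    apply hne
    calc g * z i * g⁻¹ = c * t * c⁻¹ := by rw [htt]; group
      _ = z i := by rw [h1]; exact comm_conj hc
  have htsq : t * t = 1 := by
    rw [ht]
    calc c⁻¹ * g * z i * (c⁻¹ * g)⁻¹ * (c⁻¹ * g * z i * (c⁻¹ * g)⁻¹) =
        c⁻¹ * g * (z i * z i) * (c⁻¹ * g)⁻¹ := by group
      _ = 1 := by rw [h.sq]; group
  -- an element of `E^C` outside `R i`
  obtain ⟨d, hd, e₁, he₁, hde⟩ := hmov
  obtain ⟨j, hji⟩ : ∃ j : Fin 5, j ≠ i := exists_ne i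
  have hdeQ : d * e₁ * d⁻¹ ∈ Q i := h.norm_Q hd he₁.2
  -- the images of `z j`
  have img : ∀ x ∈ Q i, x ∉ h.R i → ∃ k, k ≠ i ∧ k ≠ j ∧ x * z j * x⁻¹ = z k := by
    intro x hx hxR
    obtain ⟨σ, hσ⟩ := h.perm x (h.QM i hx)
    refine ⟨σ j, ?_, ?_, hσ j⟩
    · intro h6
      have h7 : σ i = i := h.inj (by rw [← hσ, comm_conj ((h.large i).comm_z x hx)])
      exact hji (σ.injective (h6.trans h7.symm))
    · intro h6
      apply hxR
      refine h.mem_R.2 ⟨hx, h.cent_of_fix hji hx ?_⟩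
      apply conj_comm
      rw [hσ, h6]
  obtain ⟨a, hai, haj, hta⟩ := img t htQ htR
  obtain ⟨b, hbi, hbj, heb⟩ := img _ hdeQ hde
  obtain ⟨τ, h1, h2, h3, h4⟩ := two_trans i j b j a (nodup3 (Ne.symm hji) (Ne.symm hbi) (Ne.symm hbj))
    (nodup3 (Ne.symm hji) (Ne.symm hai) (Ne.symm haj))
  obtain ⟨m, hm, hmz⟩ := h.alt τ h4
  have hmi : m * z i = z i * m := conj_comm (by rw [hmz, h1])
  set n := m * d with hn
  have hni : n * z i = z i * n := hcmul hmi hd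
  set e' := n * e₁ * n⁻¹ with he'
  have he'eq : e' = m * (d * e₁ * d⁻¹) * m⁻¹ := by rw [he', hn]; group
  have he'Q : e' ∈ Q i := by rw [he'eq]; exact h.norm_Q hmi hdeQ
  have he'R : e' ∉ h.R i := by
    intro h5
    apply hde
    have hmi' : m⁻¹ * z i * m⁻¹⁻¹ = z i := by
      calc m⁻¹ * z i * m⁻¹⁻¹ = m⁻¹ * (m * z i * m⁻¹) * m := by rw [hmz, h1]; group
        _ = z i := by group
    have h6 := h.conjR (inv_mem hm) hmi' h5
    have e : m⁻¹ * e' * m⁻¹⁻¹ = d * e₁ * d⁻¹ := by rw [he'eq]; group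
    rwa [e] at h6
  have he'j : e' * z j * e'⁻¹ = z a := by
    have hmj : m⁻¹ * z j * m = z j := by
      calc m⁻¹ * z j * m = m⁻¹ * (m * z j * m⁻¹) * m := by rw [hmz, h2]
        _ = z j := by group
    calc e' * z j * e'⁻¹ = m * ((d * e₁ * d⁻¹) * (m⁻¹ * z j * m) * (d * e₁ * d⁻¹)⁻¹) * m⁻¹ := by
          rw [he'eq]; group
      _ = m * z b * m⁻¹ := by rw [hmj, heb]
      _ = z a := by rw [hmz, h3]
  obtain ⟨r, hr, x, hx, hrx⟩ := h.cover (Ne.symm hji) htQ htR he'Q (by rw [hta, he'j])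
  -- squares
  have he₁sq : e₁ * e₁ = 1 := h.Vsq he₁.1
  have he'sq : e' * e' = 1 := by
    calc e' * e' = n * (e₁ * e₁) * n⁻¹ := by rw [he']; group
      _ = 1 := by rw [he₁sq]; group
  have hxsq : x * x = 1 := h.Vsq hx.1
  have hcomm : e' * x = x * e' := by
    refine comm_of_sq he'sq hxsq ?_
    rw [← hrx]
    calc r⁻¹ * t * r * (r⁻¹ * t * r) = r⁻¹ * (t * t) * r := by group
      _ = 1 := by rw [htsq]; group
  -- no conjugate of `z i` under `C` of an element of `E` except `z i`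
  have key : ∀ n' : G, n' * z i = z i * n' → ∀ e ∈ V ⊓ Q i, r⁻¹ * t * r = n' * e * n'⁻¹ → e = z i := by
    intro n' hn' e he h5
    have h6 : e = (n'⁻¹ * r⁻¹ * (c⁻¹ * g)) * z i * (n'⁻¹ * r⁻¹ * (c⁻¹ * g))⁻¹ := by
      calc e = n'⁻¹ * (n' * e * n'⁻¹) * n' := by group
        _ = n'⁻¹ * (r⁻¹ * t * r) * n' := by rw [h5]
        _ = _ := by rw [ht]; group
    have h7 := hE (n'⁻¹ * r⁻¹ * (c⁻¹ * g)) (by rw [← h6]; exact he.1) (by rw [← h6]; exact he.2)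
    rw [h6, h7]
  have hne' : e₁ ≠ z i := by
    intro h5
    apply he'R
    rw [he', h5, comm_conj hni]
    exact h.E_le_R (h.mem i) (h.large i).z_mem
  rcases h.mem_E hx.1 hx.2 with h5 | h5 | ⟨k, l, hki, hli, hkl, h5⟩
  · apply hne'
    refine key n hni e₁ he₁ ?_
    rw [hrx, h5, mul_one]
  · have h6 := key n hni (e₁ * z i) ⟨mul_mem he₁.1 (h.mem i), mul_mem he₁.2 (h.large i).z_mem⟩ (by
      rw [hrx, h5, he']
      calc n * e₁ * n⁻¹ * z i = n * e₁ * (n⁻¹ * z i) := by group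
        _ = n * e₁ * (z i * n⁻¹) := by rw [hcinv hni]
        _ = n * (e₁ * z i) * n⁻¹ := by group)
    have h7 : e₁ = 1 := mul_eq_right.1 h6
    apply he'R
    rw [he', h7]
    simp
  · -- `e'` swaps `z k` and `z l`
    obtain ⟨ρ, hρ⟩ := h.perm e' (h.QM i he'Q)
    have hne1 : ρ ≠ 1 := by
      intro h6
      apply he'R
      refine h.mem_R.2 ⟨he'Q, h.cent_of_fix hji he'Q ?_⟩
      apply conj_comm
      rw [hρ, h6]; rfl
    have hreg : ∀ j, j ≠ i → ρ j ≠ j ∧ ρ (ρ j) = j := by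
      rcases h.four i e' he'Q ρ hρ with h6 | h6
      · exact h6
      · exact absurd h6 hne1
    have h6 : z (ρ k) * z (ρ l) = z k * z l := by
      rw [← hρ, ← hρ]
      calc e' * z k * e'⁻¹ * (e' * z l * e'⁻¹) = e' * (z k * z l) * e'⁻¹ := by group
        _ = z k * z l := by rw [← h5]; exact comm_conj hcomm
    have hρkl : ρ l = k := by
      rcases h.pair_inj (fun h7 => hkl (ρ.injective h7)) hkl h6 with ⟨h7, -⟩ | ⟨-, h8⟩
      · exact absurd h7 (hreg k hki).1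
      · exact h8
    have hk' : e' * z l * e'⁻¹ = z k := by rw [hρ, hρkl]
    -- `r⁻¹ t r = z k e' z k`... conjugate by `z l`
    have hzl : z l * z i = z i * z l := h.comm l i
    have h7 := key (z k * n) (hcmul (h.comm k i) hni) e₁ he₁ (by
      have e1 : e'⁻¹ = e' := inv_eq_of_mul_eq_one_left he'sq
      have h8 : z k * e' = e' * z l := by
        calc z k * e' = e' * z l * e'⁻¹ * e' := by rw [hk']
          _ = e' * z l := by group
      calc r⁻¹ * t * r = e' * (z k * z l) := by rw [hrx, h5]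
        _ = e' * z l * z k := by rw [h.comm k l]; group
        _ = z k * e' * (z k)⁻¹ := by rw [← h8, h.zinv k]
        _ = z k * n * e₁ * (z k * n)⁻¹ := by rw [he']; group)
    exact hne' h7

end Cfsg.Agent.Omega.NO1End.Surj.Five
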