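import Cfsg.Agent.Omega.NO1End.LineFus
import Cfsg.Agent.Omega.NO1End.Weak

/-!
# NO-1, END, `q = 2`, type `O₄⁻(2)` (text #12702, steps (8)-(11)), helper203

`G` of characteristic 2 type, `S` a Sylow `2`-subgroup, `Ω₁(Z(S)) = ⟨z 0⟩`, `S ≤ M ≤ N(V)`, `V` an
`O₄⁻(2)`-module of `M`, `V ≰ O₂(C(z 0))`, no mutual pairs.  Then `Q = O₂(C(z 0))` is large extraspecial
(THEOREM D0) and `z 0` is weakly closed in `Q` w.r.t. `G`.
-/

set_option autoImplicit false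

namespace Cfsg.Agent.Omega.NO1End.Eight

open Subgroup Cfsg Cfsg.Agent.ZN Cfsg.Agent.Omega
open Cfsg.Agent.Omega.NOne.DZero Cfsg.Agent.Omega.NOne.DZeroPts
open Cfsg.Agent.Omega.NO1End.Surj Cfsg.Agent.Omega.NO1End.Line
open Cfsg.Agent.Co2Type.Quad
open scoped Pointwise

universe u

variable {G : Type u} [Group G]

/-- a normal subgroup of a `2`-group `S` which is larger than `⟨z⟩`, `z` central: a line fixed by `S` -/
theorem exists_line [Finite G] {S E : Subgroup G} {z : G} (hS : IsPGroup 2 S) (hzz : z * z = 1)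
    (hzS : z ∈ S) (hzc : ∀ s ∈ S, s * z = z * s) (hE : E ≤ S)
    (hn : ∀ s ∈ S, ∀ e ∈ E, s * e * s⁻¹ ∈ E) (hzE : z ∈ E) (hne : ∃ e ∈ E, e ≠ 1 ∧ e ≠ z) :
    ∃ e ∈ E, e ≠ 1 ∧ e ≠ z ∧ ∀ s ∈ S, s * e * s⁻¹ = e ∨ s * e * s⁻¹ = z * e := by
  have : Fact (Nat.Prime 2) := ⟨Nat.prime_two⟩
  let N : Subgroup S :=
    { carrier := {x | (x : G) = 1 ∨ (x : G) = z}
      one_mem' := Or.inl rfl
      mul_mem' := by
        rintro ⟨x, hx⟩ ⟨y, hy⟩ hx1 hy1
        change x = 1 ∨ x = z at hx1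
        change y = 1 ∨ y = z at hy1
        change x * y = 1 ∨ x * y = z
        rcases hx1 with rfl | rfl <;> rcases hy1 with rfl | rfl <;> simp [hzz]
      inv_mem' := by
        rintro ⟨x, hx⟩ hx1
        change x = 1 ∨ x = z at hx1
        change x⁻¹ = 1 ∨ x⁻¹ = z
        rcases hx1 with rfl | rfl
        · simp
        · right; exact inv_eq_of_mul_eq_one_left hzz }
  have hmN : ∀ {x : S}, x ∈ N ↔ (x : G) = 1 ∨ (x : G) = z := fun {x} => Iff.rfl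
  have hN : N.Normal := ⟨by
    rintro ⟨x, hx⟩ hx1 ⟨s, hs⟩
    rw [hmN] at hx1 ⊢
    change x = 1 ∨ x = z at hx1
    change s * x * s⁻¹ = 1 ∨ s * x * s⁻¹ = z
    rcases hx1 with rfl | rfl
    · left; group
    · right; exact comm_conj (hzc s hs)⟩
  have hnil : Group.IsNilpotent (S ⧸ N) := (hS.to_quotient N).isNilpotent
  let E' : Subgroup (S ⧸ N) := (E.subgroupOf S).map (QuotientGroup.mk' N)
  have hE'n : E'.Normal := by
    refine Subgroup.Normal.map ⟨?_⟩ _ (QuotientGroup.mk'_surjective N)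
    rintro ⟨x, hx⟩ hx1 ⟨s, hs⟩
    rw [mem_subgroupOf] at hx1 ⊢
    exact hn s hs x hx1
  have hE'b : E' ≠ ⊥ := by
    intro h1
    obtain ⟨e, he, he1, he2⟩ := hne
    have h2 : QuotientGroup.mk' N ⟨e, hE he⟩ ∈ E' := ⟨⟨e, hE he⟩, mem_subgroupOf.2 he, rfl⟩
    rw [h1, mem_bot, QuotientGroup.mk'_apply, QuotientGroup.eq_one_iff, hmN] at h2
    rcases h2 with h2 | h2
    · exact he1 h2
    · exact he2 h2
  have h1 := Cfsg.Agent.Lib.NormalAbelian.normal_inf_center_ne_bot E' hE'b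
  obtain ⟨x, hx, hx1⟩ : ∃ x, x ∈ E' ⊓ center (S ⧸ N) ∧ x ≠ 1 := by
    by_contra hcon
    push Not at hcon
    exact h1 (eq_bot_iff.2 fun x hx => mem_bot.2 (hcon x hx))
  obtain ⟨⟨⟨e, heS⟩, heE, rfl⟩, hxZ⟩ := mem_inf.1 hx
  rw [SetLike.mem_coe, mem_subgroupOf] at heE
  refine ⟨e, heE, ?_, ?_, ?_⟩
  · rintro rfl
    exact hx1 ((QuotientGroup.eq_one_iff _).2 (hmN.2 (Or.inl rfl)))
  · rintro rfl
    exact hx1 ((QuotientGroup.eq_one_iff _).2 (hmN.2 (Or.inr rfl)))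
  · intro s hs
    have h2 := mem_center_iff.1 hxZ (QuotientGroup.mk' N ⟨s, hs⟩)
    have h3 : QuotientGroup.mk' N (⟨e, heS⟩ * ⟨s, hs⟩) = QuotientGroup.mk' N (⟨s, hs⟩ * ⟨e, heS⟩) := by
      rw [map_mul, map_mul, h2]
    have h4 := QuotientGroup.eq.1 h3
    rw [hmN] at h4
    change (e * s)⁻¹ * (s * e) = 1 ∨ (e * s)⁻¹ * (s * e) = z at h4
    have hsz := hzc s hs
    rcases h4 with h4 | h4
    · left
      rw [inv_mul_eq_one] at h4
      rw [← h4]; group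
    · right
      rw [inv_mul_eq_iff_eq_mul] at h4
      have hez : e * z = z * e := hzc e (hE heE)
      calc s * e * s⁻¹ = e * (s * z) * s⁻¹ := by rw [h4]; group
        _ = e * z := by rw [hsz]; group
        _ = z * e := hez

/-- The hypotheses. -/
structure Hyp (S : Sylow 2 G) (M V : Subgroup G) (z : Fin 5 → G) : Prop where
  pts : Pts M V z
  MV : M ≤ normalizer (V : Set G)
  SM : (S : Subgroup G) ≤ M
  VS : V ≤ (S : Subgroup G)
  zS : ∀ s ∈ (S : Subgroup G), s * z 0 = z 0 * s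
  Z : ∀ x ∈ (S : Subgroup G), (∀ s ∈ (S : Subgroup G), x * s = s * x) → x * x = 1 → x = 1 ∨ x = z 0
  VQ : ¬ V ≤ o2 (centralizer ({z 0} : Set G))

namespace Hyp

variable [Finite G] {S : Sylow 2 G} {M V : Subgroup G} {z : Fin 5 → G}

theorem loc0 (hG : IsCharacteristicTwoType G) (h : Hyp S M V z) : Loc M V z (S : Subgroup G) 0 :=
  loc_zero hG S h.pts h.MV h.SM h.VS h.zS h.Z h.VQ

theorem dz' (hG : IsCharacteristicTwoType G) (h : Hyp S M V z) :
    DZ M z (fun i => QQ (z i)) (fun i => QS V (z i)) :=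
  dz hG S h.pts h.MV h.SM h.VS h.zS h.Z h.VQ

/-- an element of `M` which carries `z 0` to `z i` -/
theorem exists_carry (h : Hyp S M V z) (i : Fin 5) : ∃ m ∈ M, m * z 0 * m⁻¹ = z i := by
  obtain ⟨τ, ht, hti⟩ : ∃ τ : Equiv.Perm (Fin 5), τ 0 = i ∧ Equiv.Perm.sign τ = 1 := by
    have key : ∀ i : Fin 5, ∃ a b : Fin 5, [a, 0, b].Nodup ∧ ∃ c, [a, i, c].Nodup := by decide
    obtain ⟨a, b, h1, c, h2⟩ := key i
    obtain ⟨τ, -, t2, -, t4⟩ := two_trans a 0 b i c h1 h2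
    exact ⟨τ, t2, t4⟩
  obtain ⟨m, hm, hmz⟩ := h.pts.alt τ hti
  exact ⟨m, hm, by rw [hmz, ht]⟩

theorem hloc (hG : IsCharacteristicTwoType G) (h : Hyp S M V z) (i : Fin 5) : ∃ T, Loc M V z T i := by
  obtain ⟨m, hm, hmz⟩ := h.exists_carry i
  exact ⟨_, (h.loc0 hG).conj h.MV hm hmz⟩

/-- the five extraspecial groups -/
theorem five (hG : IsCharacteristicTwoType G) (h : Hyp S M V z) : Five M V z (fun i => QQ (z i)) := by
  have hD := h.dz' hG
  have hloc := h.hloc hG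
  choose T hT using hloc
  exact
    { toPts := h.pts
      MV := h.MV
      large := fun i => hD.large i (hT i).char2
      conjQ := hD.eqQ
      QM := hD.QM
      notMem := fun i j hji => not_mem h.pts (hT i) hji
      pair := fun i j k hji hki hjk => pair_mem h.pts (hT i) hji hki hjk
      four := fun i q hq σ hσ => act_four h.pts (hT i) hq hσ
      swap := fun i j k l m hn => by
        obtain ⟨u, hu, hu'⟩ := hD.swap i j k l m hn
        exact ⟨u, hD.le i hu, hu'⟩ }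

/-- the line of `V ∩ O₂(C(z 0))` which is normalised by `S` -/
theorem exists_Ln (hG : IsCharacteristicTwoType G) (h : Hyp S M V z) :
    ∃ e ∈ V, Ln (S : Subgroup G) (QQ (z 0)) (z 0) e := by
  have h0 := h.loc0 hG
  have h5 := h.five hG
  have hzQ : z 0 ∈ QQ (z 0) := z_mem_QQ (h.pts.sq 0)
  obtain ⟨e, he, he1, hez, hact⟩ := exists_line (E := V ⊓ QQ (z 0)) (z := z 0) S.isPGroup'
    (h.pts.sq 0) (h.VS (h.pts.mem 0)) h.zS (inf_le_left.trans h.VS) (fun s hs e he =>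
      ⟨(mem_normalizer_iff.1 (h.MV (h.SM hs)) e).1 he.1, QQ_norm (h.zS s hs) he.2⟩)
    ⟨h.pts.mem 0, hzQ⟩ h0.E
  exact ⟨e, he.1,
    { large := h5.large 0
      QS := h0.QT
      cz := h.zS
      eQ := he.2
      sq := h5.Vsq he.1
      ne1 := he1
      nez := hez
      act := hact
      Z := h.Z }⟩

/-- **(8)** -/
theorem eight (hG : IsCharacteristicTwoType G) (h : Hyp S M V z) (hF : ¬ FF (S : Subgroup G)) {g : G}
    (hgV : g * z 0 * g⁻¹ ∈ V) (hgQ : g * z 0 * g⁻¹ ∈ QQ (z 0)) : g * z 0 * g⁻¹ = z 0 := by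
  by_contra hne
  have h5 := h.five hG
  have h0 := h.loc0 hG
  have hz1 : g * z 0 * g⁻¹ ≠ 1 := by
    intro h1
    apply h.pts.ne_one 0
    calc z 0 = g⁻¹ * (g * z 0 * g⁻¹) * g := by group
      _ = 1 := by rw [h1]; group
  obtain ⟨e, heV, hL⟩ := h.exists_Ln hG
  obtain ⟨a, b, ha, hb, hab, hpair⟩ : ∃ a b : Fin 5, a ≠ 0 ∧ b ≠ 0 ∧ a ≠ b ∧ e = z a * z b := by
    rcases h5.mem_E heV hL.eQ with h1 | h1 | h1
    · exact absurd h1 hL.ne1
    · exact absurd h1 hL.nez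
    · exact h1
  -- pairs are conjugate to `e` under `M ∩ C(z 0)`
  have hconj : ∀ x ∈ V ⊓ QQ (z 0), x ≠ 1 → x ≠ z 0 → ∃ m : G, m * z 0 = z 0 * m ∧ m * x * m⁻¹ = e := by
    intro x hx hx1 hx2
    obtain ⟨j, k, hj, hk, hjk, rfl⟩ : ∃ j k : Fin 5, j ≠ 0 ∧ k ≠ 0 ∧ j ≠ k ∧ x = z j * z k := by
      rcases h5.mem_E hx.1 hx.2 with h1 | h1 | h1
      · exact absurd h1 hx1
      · exact absurd h1 hx2
      · exact h1
    obtain ⟨τ, t1, t2, t3, t4⟩ := two_trans 0 j k a b (nodup3 (Ne.symm hj) (Ne.symm hk) hjk)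
      (nodup3 (Ne.symm ha) (Ne.symm hb) hab)
    obtain ⟨m, -, hmz⟩ := h.pts.alt τ t4
    refine ⟨m, conj_comm (by rw [hmz, t1]), ?_⟩
    calc m * (z j * z k) * m⁻¹ = m * z j * m⁻¹ * (m * z k * m⁻¹) := by group
      _ = e := by rw [hmz, hmz, t2, t3, hpair]
  obtain ⟨m, -, hme⟩ := hconj _ ⟨hgV, hgQ⟩ hz1 hne
  have hge : m * g * z 0 * (m * g)⁻¹ = e := by
    calc m * g * z 0 * (m * g)⁻¹ = m * (g * z 0 * g⁻¹) * m⁻¹ := by group
      _ = e := hme
  have hcomm : ∀ c : G, c * z 0 = z 0 * c → e * (c * e * c⁻¹) = c * e * c⁻¹ * e :=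
    fun c hc => hL.comm_of_not_FF hF hge hc
  have hinv : ∀ {c : G}, c * z 0 = z 0 * c → c⁻¹ * z 0 = z 0 * c⁻¹ := by
    intro c hc
    rw [inv_mul_eq_iff_eq_mul, ← mul_assoc, hc, mul_assoc, mul_inv_cancel, mul_one]
  -- `V ∩ Q` commutes with its conjugates
  have hall : ∀ f ∈ V ⊓ QQ (z 0), ∀ c : G, c * z 0 = z 0 * c → ∀ f' ∈ V ⊓ QQ (z 0),
      f * (c * f' * c⁻¹) = c * f' * c⁻¹ * f := by
    intro f hf c hc f' hf'
    by_cases hf1 : f = 1
    · rw [hf1]; simp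
    by_cases hf2 : f = z 0
    · rw [hf2]
      have h1 : f' * z 0 = z 0 * f' := h0.cz _ (h0.QT hf'.2)
      have h2 : c⁻¹ * z 0 = z 0 * c⁻¹ := hinv hc
      calc z 0 * (c * f' * c⁻¹) = (z 0 * c) * f' * c⁻¹ := by group
        _ = c * (z 0 * f') * c⁻¹ := by rw [← hc]; group
        _ = c * f' * (z 0 * c⁻¹) := by rw [← h1]; group
        _ = c * f' * c⁻¹ * z 0 := by rw [← h2]; group
    by_cases hf3 : f' = 1
    · rw [hf3]; simp
    by_cases hf4 : f' = z 0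
    · rw [hf4, comm_conj hc]
      exact h0.cz _ (h0.QT hf.2)
    obtain ⟨m₁, hm₁, e₁⟩ := hconj f hf hf1 hf2
    obtain ⟨m₂, hm₂, e₂⟩ := hconj f' hf' hf3 hf4
    have hd : m₁ * c * m₂⁻¹ * z 0 = z 0 * (m₁ * c * m₂⁻¹) := by
      calc m₁ * c * m₂⁻¹ * z 0 = m₁ * c * (m₂⁻¹ * z 0) := by group
        _ = m₁ * (c * z 0) * m₂⁻¹ := by rw [hinv hm₂]; group
        _ = (m₁ * z 0) * c * m₂⁻¹ := by rw [hc]; group
        _ = z 0 * (m₁ * c * m₂⁻¹) := by rw [hm₁]; group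
    have h1 := hcomm _ hd
    have ef : f = m₁⁻¹ * e * m₁ := by rw [← e₁]; group
    have ef' : f' = m₂⁻¹ * e * m₂ := by rw [← e₂]; group
    calc f * (c * f' * c⁻¹) =
        m₁⁻¹ * (e * (m₁ * c * m₂⁻¹ * e * (m₁ * c * m₂⁻¹)⁻¹)) * m₁ := by rw [ef, ef']; group
      _ = m₁⁻¹ * (m₁ * c * m₂⁻¹ * e * (m₁ * c * m₂⁻¹)⁻¹ * e) * m₁ := by rw [h1]
      _ = c * f' * c⁻¹ * f := by rw [ef, ef']; group
  -- `QS` centralises `V ∩ Q`
  have hQS : ∀ u ∈ QS V (z 0), ∀ f ∈ V ⊓ QQ (z 0), f * u = u * f := by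
    intro u hu
    unfold QS at hu
    induction hu using closure_induction with
    | mem u hu =>
      obtain ⟨c, hc, f', hf', rfl⟩ := hu
      intro f hf
      exact hall f hf c (mem_CC.1 hc) f' hf'
    | one => intro f _; simp
    | mul x y _ _ hx hy =>
      intro f hf
      rw [← mul_assoc, hx f hf, mul_assoc, hy f hf, mul_assoc]
    | inv x _ hx =>
      intro f hf
      have h1 := hx f hf
      calc f * x⁻¹ = x⁻¹ * (x * f) * x⁻¹ := by group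
        _ = x⁻¹ * (f * x) * x⁻¹ := by rw [h1]
        _ = x⁻¹ * f := by group
  obtain ⟨u, hu, u1, u2, u3, u4⟩ := (h.dz' hG).swap 0 1 2 3 4 (by decide)
  have h13 : z 1 * z 3 ∈ V ⊓ QQ (z 0) :=
    ⟨mul_mem (h.pts.mem 1) (h.pts.mem 3), h5.pair 0 1 3 (by decide) (by decide) (by decide)⟩
  have h6 := hQS u hu _ h13
  have h7 : z 2 * z 4 = z 1 * z 3 := by
    calc z 2 * z 4 = u * z 1 * u⁻¹ * (u * z 3 * u⁻¹) := by rw [u1, u3]
      _ = u * (z 1 * z 3) * u⁻¹ := by group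
      _ = z 1 * z 3 := comm_conj h6.symm
  rcases h5.pair_inj (a := 2) (b := 4) (c := 1) (d := 3) (by decide) (by decide) h7 with h8 | h8
  · exact absurd h8.1 (by decide)
  · exact absurd h8.1 (by decide)

/-- **(11)**: `z 0` is weakly closed in `O₂(C(z 0))` w.r.t. `G`. -/
theorem weak_closed (hG : IsCharacteristicTwoType G) (h : Hyp S M V z) (hF : ¬ FF (S : Subgroup G))
    {g : G} (hg : g * z 0 * g⁻¹ ∈ QQ (z 0)) : g * z 0 * g⁻¹ = z 0 := by
  have h5 := h.five hG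
  have hD := h.dz' hG
  refine h5.weak (i := 0) (fun g h1 h2 => h.eight hG hF h1 h2) ?_ ?_ hg
  · intro t ht ht1 ht2
    by_contra hcon
    push Not at hcon
    have h1 : t ∈ hD.D 0 := by
      refine hD.mem_D.2 ⟨ht, fun y hy => ?_⟩
      change y ∈ QS V (z 0) at hy
      unfold QS at hy
      induction hy using closure_induction with
      | mem u hu =>
        obtain ⟨c, hc, f', hf', rfl⟩ := hu
        exact hcon c (mem_CC.1 hc) f' hf'
      | one => simp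
      | mul x y _ _ hx hy => rw [← mul_assoc, hx, mul_assoc, hy, mul_assoc]
      | inv x _ hx =>
        calc t * x⁻¹ = x⁻¹ * (x * t) * x⁻¹ := by group
          _ = x⁻¹ * (t * x) * x⁻¹ := by rw [hx]
          _ = x⁻¹ * t := by group
    rcases hD.D_eq h1 with h2 | h2
    · exact ht1 h2
    · exact ht2 h2
  · by_contra hcon
    push Not at hcon
    have h1 : QS V (z 0) ≤ h5.R 0 := by
      unfold QS
      rw [closure_le]
      rintro y ⟨c, hc, f', hf', rfl⟩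
      exact hcon c (mem_CC.1 hc) f' hf'
    obtain ⟨u, hu, u1, -⟩ := hD.swap 0 1 2 3 4 (by decide)
    have h2 := h5.cent_R (h1 hu) 1
    rw [comm_conj h2] at u1
    exact absurd (h.pts.inj u1) (by decide)

end Hyp

end Cfsg.Agent.Omega.NO1End.Eight
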