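import Cfsg.Agent.Omega.VP
import Cfsg.Agent.Co2Type.Quad

/-!
# NO-1, END, `q = 2` (text #12702, step (8)), helper203

`Q` large extraspecial with centre `⟨z⟩ = Ω₁(Z(S))`, `Q ≤ S`, `⟨z, e⟩ ≤ Q` a four-group normal in `S`.
If `e` is conjugate to `z`, then `⟨z, e⟩ = V_P` for some `P ∈ P*(S)`; if there is no mutual pair, then
all the `⟨z, e⟩ ^ c`, `c ∈ C(z)`, commute with one another.
-/

set_option autoImplicit false

namespace Cfsg.Agent.Omega.NO1End.Line

open Subgroup Cfsg Cfsg.Agent.ZN Cfsg.Agent.Omega.MinPar Cfsg.Agent.Omega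
open Cfsg.Agent.MinSimple.VModule Cfsg.Agent.Co2Type.Quad
open scoped Pointwise

universe u

variable {G : Type u} [Group G]

/-- `⟨z, e⟩` is a four-group of `Q`, normal in `S`. -/
structure Ln (S Q : Subgroup G) (z e : G) : Prop where
  large : Large Q z
  QS : Q ≤ S
  cz : ∀ s ∈ S, s * z = z * s
  eQ : e ∈ Q
  sq : e * e = 1
  ne1 : e ≠ 1
  nez : e ≠ z
  act : ∀ s ∈ S, s * e * s⁻¹ = e ∨ s * e * s⁻¹ = z * e
  Z : ∀ x ∈ S, (∀ s ∈ S, x * s = s * x) → x * x = 1 → x = 1 ∨ x = z

namespace Ln

variable {S Q : Subgroup G} {z e : G}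

theorem comm_of_conj_eq {x y : G} (h : x * y * x⁻¹ = y) : x * y = y * x := by
  calc x * y = x * y * x⁻¹ * x := by group
    _ = y * x := by rw [h]

theorem conj_eq_of_comm {x y : G} (h : x * y = y * x) : x * y * x⁻¹ = y := by
  rw [h]; group

/-- the four-group `⟨z, e⟩` -/
def F (h : Ln S Q z e) : Subgroup G where
  carrier := {x | x = 1 ∨ x = z ∨ x = e ∨ x = z * e}
  one_mem' := Or.inl rfl
  mul_mem' := by
    have hz := h.large.z_sq
    have he := h.sq
    have hc : e * z = z * e := h.large.comm_z e h.eQ
    have e1 : z * (z * e) = e := by rw [← mul_assoc, hz, one_mul]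
    have e2 : e * (z * e) = z := by rw [← mul_assoc, hc, mul_assoc, he, mul_one]
    have e3 : z * e * z = e := by rw [mul_assoc, hc, e1]
    have e4 : z * e * e = z := by rw [mul_assoc, he, mul_one]
    have e5 : z * e * (z * e) = 1 := by rw [← mul_assoc, e3, he]
    rintro x y (rfl | rfl | rfl | rfl) (rfl | rfl | rfl | rfl) <;>
      simp only [Set.mem_ofPred_eq, one_mul, mul_one, hz, he, e1, e2, e3, e4, e5, hc, true_or, or_true,
        eq_self_iff_true]
  inv_mem' := by
    have hz : z⁻¹ = z := h.large.z_inv
    have he : e⁻¹ = e := inv_eq_of_mul_eq_one_left h.sq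
    have hc : e * z = z * e := h.large.comm_z e h.eQ
    rintro x (rfl | rfl | rfl | rfl)
    · simp
    · simp [hz]
    · simp [he]
    · right; right; right
      rw [mul_inv_rev, hz, he, hc]

theorem mem_F (h : Ln S Q z e) {x : G} : x ∈ h.F ↔ x = 1 ∨ x = z ∨ x = e ∨ x = z * e := Iff.rfl

theorem z_mem (h : Ln S Q z e) : z ∈ h.F := Or.inr (Or.inl rfl)

theorem e_mem (h : Ln S Q z e) : e ∈ h.F := Or.inr (Or.inr (Or.inl rfl))

theorem F_le (h : Ln S Q z e) : h.F ≤ Q := by
  rintro x (rfl | rfl | rfl | rfl)
  · exact one_mem _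
  · exact h.large.z_mem
  · exact h.eQ
  · exact mul_mem h.large.z_mem h.eQ

theorem F_sq (h : Ln S Q z e) {x : G} (hx : x ∈ h.F) : x * x = 1 := by
  have hc : e * z = z * e := h.large.comm_z e h.eQ
  rcases hx with rfl | rfl | rfl | rfl
  · simp
  · exact h.large.z_sq
  · exact h.sq
  · calc z * e * (z * e) = z * (e * z) * e := by group
      _ = z * z * (e * e) := by rw [hc]; group
      _ = 1 := by rw [h.sq, h.large.z_sq, one_mul]

theorem F_comm (h : Ln S Q z e) {x y : G} (hx : x ∈ h.F) (hy : y * z = z * y) (hy' : y * e = e * y) :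
    y * x = x * y := by
  rcases hx with rfl | rfl | rfl | rfl
  · simp
  · exact hy
  · exact hy'
  · calc y * (z * e) = y * z * e := by group
      _ = z * (y * e) := by rw [hy]; group
      _ = z * e * y := by rw [hy']; group

theorem ne_bot (h : Ln S Q z e) : h.F ≠ ⊥ := by
  intro h1
  have h2 := h.z_mem
  rw [h1, mem_bot] at h2
  exact h.large.z_ne h2

theorem isPGroup_F (h : Ln S Q z e) : IsPGroup 2 h.F := by
  rintro ⟨x, hx⟩
  refine ⟨1, Subtype.ext ?_⟩
  change x ^ 2 ^ 1 = 1
  rw [pow_one, pow_two]
  exact h.F_sq hx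

/-- the centraliser of `C_Q(e)` in `Q` -/
theorem cent_cent (h : Ln S Q z e) {f : G} (hf : f ∈ Q) (hfc : ∀ y ∈ Q, y * e = e * y → f * y = y * f) :
    f ∈ h.F := by
  have hL := h.large
  -- `q₁` moves `e`
  obtain ⟨q, hq, hqe⟩ : ∃ q ∈ Q, q * e ≠ e * q := by
    by_contra hcon
    push Not at hcon
    rcases hL.cent e h.eQ (fun y hy => (hcon y hy).symm) with h1 | h1
    · exact h.ne1 h1
    · exact h.nez h1
  have gen : ∀ y ∈ Q, (∀ x ∈ Q, x * e = e * x → y * x = x * y) → y * q = q * y →
      y = 1 ∨ y = z := by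
    intro y hy h1 h2
    refine hL.cent y hy fun x hx => ?_
    rcases hL.comm x hx e h.eQ with h3 | h3
    · exact h1 x hx h3
    · -- `q⁻¹ x` commutes with `e`
      have h4 : q * e = e * q * z := by
        rcases hL.comm q hq e h.eQ with h4 | h4
        · exact absurd h4 hqe
        · exact h4
      have h5 : q⁻¹ * x * e = e * (q⁻¹ * x) := by
        have hqz : q⁻¹ * z = z * q⁻¹ := hL.comm_z _ (inv_mem hq)
        have hxz : x * z = z * x := hL.comm_z x hx
        have h6 : q⁻¹ * e = e * q⁻¹ * z := by
          have h7 : q * (e * q⁻¹ * z) = e := by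
            calc q * (e * q⁻¹ * z) = q * e * (q⁻¹ * z) := by group
              _ = e * q * z * (z * q⁻¹) := by rw [h4, hqz]
              _ = e * q * (z * z) * q⁻¹ := by group
              _ = e := by rw [hL.z_sq]; group
          rw [inv_mul_eq_iff_eq_mul, h7]
        calc q⁻¹ * x * e = q⁻¹ * (x * e) := by group
          _ = q⁻¹ * e * (x * z) := by rw [h3]; group
          _ = e * q⁻¹ * (z * x) * z := by rw [h6]; group
          _ = e * q⁻¹ * (x * z) * z := by rw [hxz]
          _ = e * q⁻¹ * x * (z * z) := by group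
          _ = e * (q⁻¹ * x) := by rw [hL.z_sq]; group
      have h6 := h1 _ (mul_mem (inv_mem hq) hx) h5
      calc y * x = y * q * (q⁻¹ * x) := by group
        _ = q * (y * (q⁻¹ * x)) := by rw [h2]; group
        _ = q * (q⁻¹ * x * y) := by rw [h6]
        _ = x * y := by group
  rcases hL.comm f hf q hq with h1 | h1
  · rcases gen f hf hfc h1 with h2 | h2
    · exact Or.inl h2
    · exact Or.inr (Or.inl h2)
  · -- `e f` commutes with `q`
    have h4 : q * e = e * q * z := by
      rcases hL.comm q hq e h.eQ with h4 | h4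
      · exact absurd h4 hqe
      · exact h4
    have hfe : f * e = e * f := hfc e h.eQ rfl
    have hez : e * z = z * e := hL.comm_z e h.eQ
    have hfz : f * z = z * f := hL.comm_z f hf
    have hqz : q * z = z * q := hL.comm_z q hq
    have h5 : e * f * q = q * (e * f) := by
      calc e * f * q = e * (f * q) := by group
        _ = e * q * (f * z) := by rw [h1]; group
        _ = e * (q * z) * f := by rw [hfz]; group
        _ = q * e * f := by rw [h4]; group
        _ = q * (e * f) := by group
    have h6 : e * f = 1 ∨ e * f = z := by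
      refine gen _ (mul_mem h.eQ hf) (fun x hx hxe => ?_) h5
      calc e * f * x = e * (f * x) := by group
        _ = e * x * f := by rw [hfc x hx hxe]; group
        _ = x * (e * f) := by rw [← hxe]; group
    rcases h6 with h6 | h6
    · right; right; left
      calc f = e * (e * f) := by rw [← mul_assoc, h.sq, one_mul]
        _ = e := by rw [h6, mul_one]
    · right; right; right
      calc f = e * (e * f) := by rw [← mul_assoc, h.sq, one_mul]
        _ = z * e := by rw [h6, hez]

/-- `Ω₁(Z(C_S(e))) = ⟨z, e⟩` -/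
theorem omega (h : Ln S Q z e) [Finite Q] {x : G} (hx : x ∈ S) (hxe : x * e = e * x)
    (hxc : ∀ s ∈ S, s * e = e * s → x * s = s * x) : x ∈ h.F := by
  have hL := h.large
  have hxz : x * z = z * x := h.cz x hx
  -- `x q x⁻¹ q⁻¹ ∈ {1, z}`
  have key : ∀ q ∈ Q, x * q * x⁻¹ = q ∨ x * q * x⁻¹ = q * z := by
    intro q hq
    have hqz : q * z = z * q := hL.comm_z q hq
    rcases hL.comm q hq e h.eQ with h1 | h1
    · left
      exact conj_eq_of_comm (hxc q (h.QS hq) h1)
    · set f := x * q * x⁻¹ * q⁻¹ with hf
      have hfQ : f ∈ Q := mul_mem (hL.conj_mem x hxz q hq) (inv_mem hq)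
      have hfF : f ∈ h.F := by
        refine h.cent_cent hfQ fun y hy hye => ?_
        have hxy : x * y = y * x := hxc y (h.QS hy) hye
        -- `q⁻¹ y q ∈ C_Q(e)`
        have h2 : q⁻¹ * y * q = y ∨ q⁻¹ * y * q = z * y := by
          rcases hL.comm y hy q hq with h3 | h3
          · left
            calc q⁻¹ * y * q = q⁻¹ * (y * q) := by group
              _ = y := by rw [h3]; group
          · right
            calc q⁻¹ * y * q = q⁻¹ * (y * q) := by group
              _ = y * z := by rw [h3]; group
              _ = z * y := hL.comm_z y hy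
        have h3 : x * (q⁻¹ * y * q) = q⁻¹ * y * q * x := by
          rcases h2 with h2 | h2
          · rw [h2, hxy]
          · rw [h2]
            calc x * (z * y) = x * z * y := by group
              _ = z * (x * y) := by rw [hxz]; group
              _ = z * y * x := by rw [hxy]; group
        have h4 : x⁻¹ * (q⁻¹ * y * q) * x = q⁻¹ * y * q := by
          calc x⁻¹ * (q⁻¹ * y * q) * x = x⁻¹ * ((q⁻¹ * y * q) * x) := by group
            _ = q⁻¹ * y * q := by rw [← h3]; group
        apply comm_of_conj_eq
        have h5 : x * y * x⁻¹ = y := conj_eq_of_comm hxy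
        calc f * y * f⁻¹ = x * (q * (x⁻¹ * (q⁻¹ * y * q) * x) * q⁻¹) * x⁻¹ := by rw [hf]; group
          _ = x * (q * (q⁻¹ * y * q) * q⁻¹) * x⁻¹ := by rw [h4]
          _ = x * y * x⁻¹ := by group
          _ = y := h5
      have hxq : x * q * x⁻¹ = f * q := by rw [hf]; group
      rcases hfF with h2 | h2 | h2 | h2
      · left; rw [hxq, h2, one_mul]
      · right; rw [hxq, h2, hqz]
      all_goals
        exfalso
        -- `(f q)² = q²` but `f`, `q` do not commute
        have hff : f * f = 1 := h.F_sq (by rw [mem_F, h2]; simp)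
        have hqf : q * f = f * q * z := by
          rw [h2]
          first
          | exact h1
          | (calc q * (z * e) = q * z * e := by group
              _ = z * (q * e) := by rw [hqz]; group
              _ = z * e * q * z := by rw [h1]; group)
        have h3 : f * q * (f * q) = q * q := by
          rw [← hxq]
          have hqq : x * (q * q) = q * q * x := by
            rcases hL.sq q hq with h4 | h4
            · rw [h4]; simp
            · rw [h4]; exact hxz
          calc x * q * x⁻¹ * (x * q * x⁻¹) = x * (q * q) * x⁻¹ := by group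
            _ = q * q := conj_eq_of_comm hqq
        have h4 : f * q * (f * q) = q * q * z := by
          calc f * q * (f * q) = f * (q * f) * q := by group
            _ = f * f * (q * z) * q := by rw [hqf]; group
            _ = q * z * q := by rw [hff, one_mul]
            _ = q * (z * q) := by group
            _ = q * q * z := by rw [← hqz]; group
        rw [h3] at h4
        exact hL.z_ne (left_eq_mul.1 h4)
  -- `x ∈ Q`
  have hxQ : x ∈ Q := by
    have hxC : x ∈ Subgroup.centralizer ({z} : Set G) := Subgroup.mem_centralizer_singleton_iff.2 hxz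
    refine hL.mem_of_act ⟨x, hxC⟩ ?_
    apply LinearEquiv.ext
    intro v
    obtain ⟨y, rfl⟩ := hL.pr_surjective v
    rw [hL.act_pr]
    change hL.pr _ = hL.pr y
    rw [hL.pr_eq_pr, hL.conjQ_coe]
    exact key y y.2
  exact h.cent_cent hxQ fun y hy hye => hxc y (h.QS hy) hye

end Ln

end Cfsg.Agent.Omega.NO1End.Line
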