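import Cfsg.Agent.Omega.NO1End.Line

/-!
# NO-1, END, `q = 2` (text #12702, step (8)), helper203: fusion in the four-group `⟨z, e⟩`

If `e` is conjugate to `z`, some element normalises `⟨z, e⟩`, centralises `e` and moves `z` to `z e`.
Then `⟨z, e⟩ = V_P` for some `P ∈ P*(S)`; without mutual pairs `e` commutes with all `c e c⁻¹`, `c ∈ C(z)`.
-/

set_option autoImplicit false

namespace Cfsg.Agent.Omega.NO1End.Line

open Subgroup Cfsg Cfsg.Agent.ZN Cfsg.Agent.Omega.MinPar Cfsg.Agent.Omega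
open Cfsg.Agent.MinSimple.VModule Cfsg.Agent.Co2Type.Quad
open scoped Pointwise

universe u

variable {G : Type u} [Group G]

namespace Ln

variable {S Q : Subgroup G} {z e : G}

theorem cez (h : Ln S Q z e) : e * z = z * e := h.large.comm_z e h.eQ

theorem zinv (h : Ln S Q z e) : z⁻¹ = z := h.large.z_inv

theorem einv (h : Ln S Q z e) : e⁻¹ = e := inv_eq_of_mul_eq_one_left h.sq

theorem ze_ne (h : Ln S Q z e) : z * e ≠ e := fun h1 => h.large.z_ne (mul_eq_right.1 h1)

theorem ze_ne_z (h : Ln S Q z e) : z * e ≠ z := fun h1 => h.ne1 (mul_eq_left.1 h1)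

theorem ze_ne_one (h : Ln S Q z e) : z * e ≠ 1 := by
  intro h1
  apply h.nez
  calc e = z * (z * e) := by rw [← mul_assoc, h.large.z_sq, one_mul]
    _ = z := by rw [h1, mul_one]

/-- some element of `S` moves `e` to `z e` -/
theorem exists_mv (h : Ln S Q z e) : ∃ s ∈ S, s * e * s⁻¹ = z * e := by
  by_contra hcon
  push Not at hcon
  have hc : ∀ s ∈ S, e * s = s * e := by
    intro s hs
    rcases h.act s hs with h2 | h2
    · exact (comm_of_conj_eq h2).symm
    · exact absurd h2 (hcon s hs)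
  rcases h.Z e (h.QS h.eQ) hc h.sq with h1 | h1
  · exact h.ne1 h1
  · exact h.nez h1

/-- `C_S(e)` -/
def S0 (_h : Ln S Q z e) : Subgroup G := S ⊓ centralizer ({e} : Set G)

theorem mem_S0 (h : Ln S Q z e) {x : G} : x ∈ h.S0 ↔ x ∈ S ∧ x * e = e * x := by
  rw [S0, mem_inf, mem_centralizer_singleton_iff]

theorem relIndex_S0 (h : Ln S Q z e) : h.S0.relIndex S = 2 := by
  rw [relIndex_eq_two_iff]
  obtain ⟨s, hs, hse⟩ := h.exists_mv
  refine ⟨s, hs, fun b hb => ?_⟩
  have hbz : b * z = z * b := h.cz b hb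
  have e1 : b * s * e * (b * s)⁻¹ = z * (b * e * b⁻¹) := by
    calc b * s * e * (b * s)⁻¹ = b * (s * e * s⁻¹) * b⁻¹ := by group
      _ = (b * z) * e * b⁻¹ := by rw [hse]; group
      _ = z * (b * e * b⁻¹) := by rw [hbz]; group
  rcases h.act b hb with h1 | h1
  · right
    refine ⟨h.mem_S0.2 ⟨hb, comm_of_conj_eq h1⟩, fun h2 => ?_⟩
    rw [h1, conj_eq_of_comm (h.mem_S0.1 h2).2] at e1
    exact h.ze_ne e1.symm
  · left
    refine ⟨h.mem_S0.2 ⟨mul_mem hb hs, ?_⟩, fun h2 => ?_⟩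
    · apply comm_of_conj_eq
      rw [e1, h1, ← mul_assoc, h.large.z_sq, one_mul]
    · rw [conj_eq_of_comm (h.mem_S0.1 h2).2] at h1
      exact h.ze_ne h1.symm

end Ln

variable [Finite G]

/-- A `2`-subgroup of `C` is conjugate in `C` into a Sylow subgroup of `C`. -/
theorem exists_conj_le {C S X : Subgroup G} (hX : X ≤ C) (hSp : IsPGroup 2 S) (hXp : IsPGroup 2 X)
    (hidx : ¬ 2 ∣ S.relIndex C) : ∃ c ∈ C, ∀ x ∈ X, c * x * c⁻¹ ∈ S := by
  have : Fact (Nat.Prime 2) := ⟨Nat.prime_two⟩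
  have hS' : IsPGroup 2 (S.subgroupOf C) := hSp.comap_of_injective C.subtype Subtype.val_injective
  have hX' : IsPGroup 2 (X.subgroupOf C) := hXp.comap_of_injective C.subtype Subtype.val_injective
  obtain ⟨Q, hQ⟩ := hX'.exists_le_sylow
  obtain ⟨c, hc⟩ := MulAction.exists_smul_eq C Q (hS'.toSylow hidx)
  refine ⟨c, c.2, ?_⟩
  intro y hy
  have h1 : (⟨y, hX hy⟩ : C) ∈ (Q : Subgroup C) := hQ (Subgroup.mem_subgroupOf.2 hy)
  have h2 : c * ⟨y, hX hy⟩ * c⁻¹ ∈ ((c • Q : Sylow 2 C) : Subgroup C) := by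
    have : c * ⟨y, hX hy⟩ * c⁻¹ = (MulAut.conj c) • (⟨y, hX hy⟩ : C) := rfl
    rw [this]
    exact Subgroup.smul_mem_pointwise_smul _ _ _ h1
  rw [hc] at h2
  exact Subgroup.mem_subgroupOf.1 h2

namespace Ln

variable {Q : Subgroup G} {z e : G} {S : Sylow 2 G}

/-- **fusion in `⟨z, e⟩`** -/
theorem fus (h : Ln (S : Subgroup G) Q z e) {g : G} (hg : g * z * g⁻¹ = e) :
    ∃ t : G, t * z * t⁻¹ = z * e ∧ t * e = e * t := by
  have : Fact (Nat.Prime 2) := ⟨Nat.prime_two⟩
  set C : Subgroup G := centralizer ({e} : Set G) with hC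
  have hmC : ∀ {x : G}, x ∈ C ↔ x * e = e * x := fun {x} => mem_centralizer_singleton_iff
  -- `g S g⁻¹ ≤ C(e)`
  have hT1 : ((g • S : Sylow 2 G) : Subgroup G) ≤ C := by
    intro x hx
    rw [Sylow.coe_subgroup_smul, Cfsg.Agent.MinSimple.CosetGraph.mem_conj_smul] at hx
    have h1 := h.cz _ hx
    rw [hmC, ← hg]
    calc x * (g * z * g⁻¹) = g * (g⁻¹ * x * g * z) * g⁻¹ := by group
      _ = g * (z * (g⁻¹ * x * g)) * g⁻¹ := by rw [h1]
      _ = g * z * g⁻¹ * x := by group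
  obtain ⟨c, hc, hcS⟩ := exists_conj_le (C := C) (S := ((g • S : Sylow 2 G) : Subgroup G)) (X := h.S0)
    inf_le_right (g • S).isPGroup' (S.isPGroup'.to_le inf_le_left)
    (Cfsg.Agent.MinSimple.Basic.not_dvd_relIndex (g • S) hT1)
  -- `T = k S k⁻¹` with `k = c⁻¹ g`
  set k : G := c⁻¹ * g with hk
  have hke : k * z * k⁻¹ = e := by
    have h1 : c⁻¹ * e = e * c⁻¹ := hmC.1 (inv_mem hc)
    calc k * z * k⁻¹ = c⁻¹ * (g * z * g⁻¹) * c := by rw [hk]; group
      _ = e := by rw [hg, h1]; group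
  set T : Subgroup G := ((k • S : Sylow 2 G) : Subgroup G) with hT
  have hmT : ∀ {x : G}, x ∈ T ↔ k⁻¹ * x * k ∈ (S : Subgroup G) := by
    intro x
    rw [hT, Sylow.coe_subgroup_smul, Cfsg.Agent.MinSimple.CosetGraph.mem_conj_smul]
  have hS0T : h.S0 ≤ T := by
    intro x hx
    rw [hmT]
    have h1 := hcS x hx
    rw [Sylow.coe_subgroup_smul, Cfsg.Agent.MinSimple.CosetGraph.mem_conj_smul] at h1
    have e1 : k⁻¹ * x * k = g⁻¹ * (c * x * c⁻¹) * g := by rw [hk]; group
    rw [e1]; exact h1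
  have hTe : ∀ t ∈ T, t * e = e * t := by
    intro t ht
    have h1 := h.cz _ (hmT.1 ht)
    rw [← hke]
    calc t * (k * z * k⁻¹) = k * (k⁻¹ * t * k * z) * k⁻¹ := by group
      _ = k * (z * (k⁻¹ * t * k)) * k⁻¹ := by rw [h1]
      _ = k * z * k⁻¹ * t := by group
  -- index 2
  have hcard : Nat.card T = Nat.card (S : Subgroup G) :=
    Nat.card_congr (Sylow.equiv (k • S) S).toEquiv
  have hidx : h.S0.relIndex T = 2 := by
    have h1 := relIndex_S0 h
    have h2 := relIndex_mul_relIndex ⊥ h.S0 (S : Subgroup G) bot_le inf_le_left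
    have h3 := relIndex_mul_relIndex ⊥ h.S0 T bot_le hS0T
    rw [relIndex_bot_left, relIndex_bot_left] at h2 h3
    rw [h1] at h2
    rw [hcard, ← h2] at h3
    exact Nat.eq_of_mul_eq_mul_left Nat.card_pos h3
  have hnorm : ∀ t ∈ T, ∀ x ∈ h.S0, t * x * t⁻¹ ∈ h.S0 := by
    have hN : (h.S0.subgroupOf T).Normal := normal_of_index_eq_two hidx
    intro t ht x hx
    have h1 := hN.conj_mem ⟨x, hS0T hx⟩ (mem_subgroupOf.2 hx) ⟨t, ht⟩
    exact mem_subgroupOf.1 h1
  -- `z ∈ S0`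
  have hzS : z ∈ (S : Subgroup G) := h.QS h.large.z_mem
  have hz0 : z ∈ h.S0 := h.mem_S0.2 ⟨hzS, h.cez.symm⟩
  -- images of `z` are in `F`
  have himg : ∀ t ∈ T, t * z * t⁻¹ = z ∨ t * z * t⁻¹ = z * e := by
    intro t ht
    have h1 := h.mem_S0.1 (hnorm t ht z hz0)
    have h2 : t * z * t⁻¹ ∈ h.F := by
      refine h.omega h1.1 h1.2 fun s hs hse => ?_
      have h3 := (h.mem_S0.1 (hnorm t⁻¹ (inv_mem ht) s (h.mem_S0.2 ⟨hs, hse⟩))).1
      have h4 := h.cz _ h3
      calc t * z * t⁻¹ * s = t * (z * (t⁻¹ * s * t⁻¹⁻¹)) * t⁻¹ := by group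
        _ = t * (t⁻¹ * s * t⁻¹⁻¹ * z) * t⁻¹ := by rw [h4]
        _ = s * (t * z * t⁻¹) := by group
    rcases h.mem_F.1 h2 with h3 | h3 | h3 | h3
    · exfalso
      apply h.large.z_ne
      calc z = t⁻¹ * (t * z * t⁻¹) * t := by group
        _ = 1 := by rw [h3]; group
    · exact Or.inl h3
    · exfalso
      apply h.nez
      have h4 := hTe t ht
      calc e = t⁻¹ * (t * e) := by group
        _ = t⁻¹ * (e * t) := by rw [h4]
        _ = t⁻¹ * (t * z * t⁻¹) * t := by rw [h3]; group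
        _ = z := by group
    · exact Or.inr h3
  by_contra hcon
  push Not at hcon
  -- otherwise `z ∈ Z(T)`
  have hall : ∀ t ∈ T, t * z = z * t := by
    intro t ht
    rcases himg t ht with h1 | h1
    · exact comm_of_conj_eq h1
    · exact absurd (hTe t ht) (hcon t h1)
  have hzT : z ∈ T := hS0T hz0
  have h1 : k⁻¹ * z * k * (k⁻¹ * z * k) = 1 := by
    calc k⁻¹ * z * k * (k⁻¹ * z * k) = k⁻¹ * (z * z) * k := by group
      _ = 1 := by rw [h.large.z_sq]; group
  have h5 : ∀ s ∈ (S : Subgroup G), k⁻¹ * z * k * s = s * (k⁻¹ * z * k) := by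
    intro s hs
    have h3 : k * s * k⁻¹ ∈ T := by
      rw [hmT]
      have e1 : k⁻¹ * (k * s * k⁻¹) * k = s := by group
      rw [e1]; exact hs
    have h4 := hall _ h3
    calc k⁻¹ * z * k * s = k⁻¹ * (z * (k * s * k⁻¹)) * k := by group
      _ = k⁻¹ * (k * s * k⁻¹ * z) * k := by rw [h4]
      _ = s * (k⁻¹ * z * k) := by group
  rcases h.Z (k⁻¹ * z * k) (hmT.1 hzT) h5 h1 with h2 | h2
  · apply h.large.z_ne
    calc z = k * (k⁻¹ * z * k) * k⁻¹ := by group
      _ = 1 := by rw [h2]; group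
  · apply h.nez
    rw [← hke]
    calc k * z * k⁻¹ = k * (k⁻¹ * z * k) * k⁻¹ := by rw [h2]
      _ = z := by group

/-! ### `⟨z, e⟩ = V_P` -/

theorem zc_eq (h : Ln (S : Subgroup G) Q z e) {x : G} :
    x ∈ zc (S : Subgroup G) ↔ x = 1 ∨ x = z := by
  rw [mem_zc]
  constructor
  · rintro ⟨h1, h2, h3⟩
    rw [pow_two] at h3
    exact h.Z x h1 (fun s hs => (h2 s hs).symm) h3
  · rintro (rfl | rfl)
    · exact ⟨one_mem _, by simp, one_pow 2⟩
    · exact ⟨h.QS h.large.z_mem, h.cz, by rw [pow_two, h.large.z_sq]⟩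

omit [Finite G] in
/-- an element `g` normalises `F` if it conjugates `z` and `e` into `F` -/
theorem mem_normF {S Q : Subgroup G} {z e : G} (h : Ln S Q z e) [Finite G] {g : G}
    (h1 : g * z * g⁻¹ ∈ h.F) (h2 : g * e * g⁻¹ ∈ h.F) : g ∈ normalizer (h.F : Set G) := by
  have h3 : h.F.map (MulAut.conj g).toMonoidHom ≤ h.F := by
    rintro _ ⟨x, hx, rfl⟩
    change g * x * g⁻¹ ∈ h.F
    rcases hx with rfl | rfl | rfl | rfl
    · simp
    · exact h1
    · exact h2
    · have e1 : g * (z * e) * g⁻¹ = g * z * g⁻¹ * (g * e * g⁻¹) := by group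
      rw [e1]; exact mul_mem h1 h2
  have h4 : h.F.map (MulAut.conj g).toMonoidHom = h.F :=
    Subgroup.eq_of_le_of_card_ge h3 (by
      rw [Subgroup.card_map_of_injective (MulAut.conj g).injective])
  rw [mem_normalizer_iff]
  intro x
  constructor
  · intro hx
    exact h3 ⟨x, hx, rfl⟩
  · intro hx
    rw [← h4] at hx
    obtain ⟨y, hy, hyx⟩ := hx
    have : y = x := (MulAut.conj g).injective hyx
    rwa [this] at hy

/-- `⟨z, e⟩ = V_P` for some `P ∈ P*(S)`. -/
theorem exists_P (h : Ln (S : Subgroup G) Q z e) {g : G} (hg : g * z * g⁻¹ = e) :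
    ∃ P : Subgroup G, IsParS (S : Subgroup G) P ∧ zl (S : Subgroup G) P = h.F := by
  obtain ⟨t, ht, hte⟩ := h.fus hg
  have hSF : (S : Subgroup G) ≤ normalizer (h.F : Set G) := by
    intro s hs
    refine h.mem_normF ?_ ?_
    · rw [conj_eq_of_comm (h.cz s hs)]; exact h.z_mem
    · rcases h.act s hs with h1 | h1
      · rw [h1]; exact h.e_mem
      · rw [h1]; exact mul_mem h.z_mem h.e_mem
  have htF : t ∈ normalizer (h.F : Set G) := by
    refine h.mem_normF ?_ ?_
    · rw [ht]; exact mul_mem h.z_mem h.e_mem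
    · rw [conj_eq_of_comm hte]; exact h.e_mem
  have hL : IsLoc (S : Subgroup G) (normalizer (h.F : Set G)) :=
    isLoc_normalizer S h.isPGroup_F h.ne_bot hSF
  have hnot : ¬ normalizer (h.F : Set G) ≤ normalizer (zc (S : Subgroup G) : Set G) := by
    intro h1
    have h2 := (mem_normalizer_iff.1 (h1 htF) z).1 (h.zc_eq.2 (Or.inr rfl))
    rw [ht, h.zc_eq] at h2
    rcases h2 with h2 | h2
    · exact h.ze_ne_one h2
    · exact h.ze_ne_z h2
  obtain ⟨P, hP, hPL, hPn⟩ := hL.exists_not_le S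
    (inf_le_right.trans (normalizer_le_normalizer_zc _)) hnot
  refine ⟨P, ⟨hP, hPn⟩, le_antisymm ?_ ?_⟩
  · refine zl_le ?_ hPL
    intro x hx
    rcases h.zc_eq.1 hx with rfl | rfl
    · exact one_mem _
    · exact h.z_mem
  · have h1 : zl (S : Subgroup G) P ≤ h.F := by
      refine zl_le ?_ hPL
      intro x hx
      rcases h.zc_eq.1 hx with rfl | rfl
      · exact one_mem _
      · exact h.z_mem
    have hz : z ∈ zl (S : Subgroup G) P := zc_le_zl _ _ (h.zc_eq.2 (Or.inr rfl))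
    -- some element outside `⟨z⟩`
    obtain ⟨x, hx, hx'⟩ : ∃ x ∈ zl (S : Subgroup G) P, x ∉ zc (S : Subgroup G) := by
      by_contra hcon
      push Not at hcon
      apply hPn
      have h2 : zl (S : Subgroup G) P = zc (S : Subgroup G) := le_antisymm hcon (zc_le_zl _ _)
      rw [← h2]
      exact le_normalizer_zl _ _
    have he : e ∈ zl (S : Subgroup G) P := by
      rcases h.mem_F.1 (h1 hx) with h2 | h2 | h2 | h2
      · exact absurd (h.zc_eq.2 (Or.inl h2)) hx'
      · exact absurd (h.zc_eq.2 (Or.inr h2)) hx'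
      · rw [← h2]; exact hx
      · have h3 := mul_mem hz hx
        rwa [h2, ← mul_assoc, h.large.z_sq, one_mul] at h3
    rintro y (rfl | rfl | rfl | rfl)
    · exact one_mem _
    · exact hz
    · exact he
    · exact mul_mem hz he

/-- Without mutual pairs `e` commutes with all `c e c⁻¹`, `c ∈ C(z)`. -/
theorem comm_of_not_FF (h : Ln (S : Subgroup G) Q z e) (hF : ¬ FF (S : Subgroup G)) {g : G}
    (hg : g * z * g⁻¹ = e) {c : G} (hc : c * z = z * c) : e * (c * e * c⁻¹) = c * e * c⁻¹ * e := by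
  obtain ⟨P, hP, hPF⟩ := h.exists_P hg
  have hQF : Q ≤ normalizer (h.F : Set G) := by
    intro q hq
    refine h.mem_normF ?_ ?_
    · rw [conj_eq_of_comm (h.large.comm_z q hq)]; exact h.z_mem
    · rcases h.large.comm q hq e h.eQ with h1 | h1
      · rw [conj_eq_of_comm h1]; exact h.e_mem
      · have h2 : q * e * q⁻¹ = z * e := by
          rw [h1]
          have h3 : q * z = z * q := h.large.comm_z q hq
          calc e * q * z * q⁻¹ = e * (q * z) * q⁻¹ := by group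
            _ = e * z := by rw [h3]; group
            _ = z * e := h.cez
        rw [h2]; exact mul_mem h.z_mem h.e_mem
  have hcQ : ∀ x ∈ Q, c⁻¹ * x * c ∈ Q := by
    intro x hx
    have hc' : c⁻¹ * z = z * c⁻¹ := by
      rw [inv_mul_eq_iff_eq_mul, ← mul_assoc, hc, mul_assoc, mul_inv_cancel, mul_one]
    have h1 := h.large.conj_mem c⁻¹ hc' x hx
    rwa [inv_inv] at h1
  have hFc : MulAut.conj c • h.F ≤ Q := by
    intro x hx
    rw [Cfsg.Agent.MinSimple.CosetGraph.mem_conj_smul] at hx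
    have h1 := h.large.conj_mem c hc _ (h.F_le hx)
    have e1 : c * (c⁻¹ * x * c) * c⁻¹ = x := by group
    rwa [e1] at h1
  have h1 : ⁅zl (S : Subgroup G) P, MulAut.conj c • zl (S : Subgroup G) P⁆ = ⊥ := by
    refine commute_of_not_FF hF hP hP c ?_ ?_
    · rw [hPF, Cfsg.Agent.MinSimple.CosetFam.normalizer_conj]
      intro x hx
      rw [Cfsg.Agent.MinSimple.CosetGraph.mem_conj_smul]
      exact hQF (hcQ x (h.F_le hx))
    · rw [hPF]
      exact hFc.trans hQF
  rw [hPF, commutator_eq_bot_iff_le_centralizer] at h1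
  have h2 := mem_centralizer_iff.1 (h1 h.e_mem) (c * e * c⁻¹) (by
    change c * e * c⁻¹ ∈ MulAut.conj c • h.F
    rw [Cfsg.Agent.MinSimple.CosetGraph.mem_conj_smul]
    have e1 : c⁻¹ * (c * e * c⁻¹) * c = e := by group
    rw [e1]; exact h.e_mem)
  exact h2.symm

end Ln

end Cfsg.Agent.Omega.NO1End.Line
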