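import Cfsg.Agent.Omega.NO1End.Eight
import Cfsg.Agent.Omega.Exits
import Cfsg.Agent.Omega.Exit.WeakClosed
import Cfsg.Agent.LargeExtra.Nine.ToCent
import Cfsg.Agent.S0095

/-!
# NO-1, END, `q = 2`, type `O₄⁻(2)` (text #12702, step (12)), helper203: the group is known
-/

set_option autoImplicit false

namespace Cfsg.Agent.Omega.NO1End.Out

open Subgroup Cfsg Cfsg.Agent.ZN Cfsg.Agent.Omega Cfsg.Agent.Omega.Exits
open Cfsg.Agent.Omega.NOne.DZeroPts Cfsg.Agent.Omega.NO1End.Eight
open Cfsg.Agent.Co2Type.Quad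

universe u

variable {G : Type u} [Group G] [Finite G]

/-- a large extraspecial `O₂(C(z))` which is larger than `⟨z⟩` -/
theorem exists_extra {z : G} (h : Large (o2 (centralizer ({z} : Set G))) z)
    (hne : Nat.card ↥(o2 (centralizer ({z} : Set G))) ≠ 2) :
    ∃ n : ℕ, 1 ≤ n ∧ Extra z n ∧ Nat.card ↥(o2 (centralizer ({z} : Set G))) = 2 ^ (2 * n + 1) := by
  have : Fact (Nat.Prime 2) := ⟨Nat.prime_two⟩
  have hE := Cfsg.Agent.LargeExtra.Nine.ToCent.isExtraspecial_Q h hne
  obtain ⟨n, hn, hc⟩ := Cfsg.Agent.S0095.result hE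
  have e : ↥(pCore 2 ↥(centralizer ({z} : Set G))) ≃* ↥(o2 (centralizer ({z} : Set G))) :=
    (pCore 2 ↥(centralizer ({z} : Set G))).equivMapOfInjective _ (Subgroup.subtype_injective _)
  refine ⟨n, hn, ⟨orderOf_eq_prime (by rw [pow_two]; exact h.z_sq) h.z_ne,
    Cfsg.Agent.J2.ExtQuot.isExtraspecial_of_equiv e.symm hE, ?_⟩, hc⟩
  rw [Nat.card_congr e.toEquiv, hc]

/-- **(12)**: `G` is known. -/
theorem known [IsSimpleGroup G] (hna : ¬ IsMulCommutative G) (hG : IsCharacteristicTwoType G)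
    (h59 : St1759.{u}) (h62 : St1762.{u}) (h63 : St1763.{u}) {S : Sylow 2 G} {M V : Subgroup G}
    {z : Fin 5 → G} (h : Hyp S M V z) (hF : ¬ FF (S : Subgroup G)) : IsKnownSimple' G := by
  have h5 := h.five hG
  have hwc : ∀ g : G, g * z 0 * g⁻¹ ∈ o2 (centralizer ({z 0} : Set G)) → g * z 0 * g⁻¹ = z 0 := by
    intro g hg
    rw [← CC_eq] at hg
    exact h.weak_closed hG hF hg
  have hL : Large (o2 (centralizer ({z 0} : Set G))) (z 0) := by
    have h1 := h5.large 0
    change Large (o2 (CC (z 0))) (z 0) at h1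
    rwa [CC_eq] at h1
  -- `z 1 z 2 ∈ Q` and `z 1 z 3 ∈ Q` commute, and `|Q| > 8`
  have hE0 : V ⊓ QQ (z 0) ≤ QQ (z 0) := inf_le_right
  have hpair : ∀ j k : Fin 5, j ≠ 0 → k ≠ 0 → j ≠ k → z j * z k ∈ V ⊓ QQ (z 0) := fun j k hj hk hjk =>
    ⟨mul_mem (h.pts.mem j) (h.pts.mem k), h5.pair 0 j k hj hk hjk⟩
  have hQ : o2 (centralizer ({z 0} : Set G)) = QQ (z 0) := by rw [← CC_eq]
  have hz12 := hpair 1 2 (by decide) (by decide) (by decide)
  have hp1 : ∀ j k : Fin 5, j ≠ k → z j * z k ≠ 1 := by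
    intro j k hjk h1
    apply hjk
    apply h.pts.inj
    rw [mul_eq_one_iff_eq_inv] at h1
    rw [h1]
    exact inv_eq_of_mul_eq_one_left (h.pts.sq k)
  have hp0 : ∀ i j k : Fin 5, [i, j, k].Nodup → z j * z k ≠ z i := by
    intro i j k hn h1
    obtain ⟨l, m, hn'⟩ := Cfsg.Agent.Omega.NOne.DZero.exists_two i j k hn
    simp only [List.nodup_cons, List.mem_cons, List.not_mem_nil, or_false, not_or, not_false_eq_true,
      List.nodup_nil, and_true] at hn'
    obtain ⟨⟨hij, hik, hil, him⟩, ⟨hjk, hjl, hjm⟩, ⟨hkl, hkm⟩, hlm⟩ := hn'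
    have h2 := h.pts.prod j k l m i (by
      simp [hjk, hjl, hjm, hkl, hkm, hlm, Ne.symm hij, Ne.symm hik, Ne.symm hil, Ne.symm him])
    rw [h1, mul_assoc] at h2
    exact hp1 l m hlm (mul_eq_left.1 h2)
  have h12 : z 1 * z 2 ≠ 1 ∧ z 1 * z 2 ≠ z 0 := ⟨hp1 1 2 (by decide), hp0 0 1 2 (by decide)⟩
  have hnc : ¬ QQ (z 0) ≤ V := by
    intro hle
    rcases hL.cent (z 1 * z 2) (by rw [hQ]; exact hz12.2) (fun y hy => by
      rw [hQ] at hy
      exact h5.Vcomm hz12.1 (hle hy)) with h1 | h1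
    · exact h12.1 h1
    · exact h12.2 h1
  have hcard5 : 5 ≤ Nat.card ↥(V ⊓ QQ (z 0)) := by
    let g : Fin 5 → G := fun i => if i = 0 then 1 else if i = 1 then z 0 else z 1 * z i
    have hg : ∀ i, g i ∈ V ⊓ QQ (z 0) := by
      intro i
      by_cases h1 : i = 0
      · simp only [g, h1, if_true]; exact one_mem _
      by_cases h2 : i = 1
      · simp only [g, h1, h2, if_true, if_false]
        exact ⟨h.pts.mem 0, z_mem_QQ (h.pts.sq 0)⟩
      · simp only [g, h1, h2, if_false]
        exact hpair 1 i (by decide) h1 (Ne.symm h2)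
    have hginj : Function.Injective g := by
      intro i j hij
      by_contra hne
      by_cases hi0 : i = 0
      · subst hi0
        by_cases hj1 : j = 1
        · subst hj1
          exact h.pts.ne_one 0 hij.symm
        · simp only [g, if_true, Ne.symm hne, hj1, if_false] at hij
          exact hp1 1 j (Ne.symm hj1) hij.symm
      by_cases hj0 : j = 0
      · subst hj0
        by_cases hi1 : i = 1
        · subst hi1
          exact h.pts.ne_one 0 hij
        · simp only [g, if_true, hi0, hi1, if_false] at hij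
          exact hp1 1 i (Ne.symm hi1) hij
      by_cases hi1 : i = 1
      · subst hi1
        simp only [g, if_true, hj0, Ne.symm hne, if_false, hi0] at hij
        exact hp0 0 1 j (by simp [Ne.symm hj0, hne]) hij.symm
      by_cases hj1 : j = 1
      · subst hj1
        simp only [g, if_true, hj0, hi1, if_false, hi0] at hij
        exact hp0 0 1 i (by simp [Ne.symm hi0, Ne.symm hi1]) hij
      · simp only [g, hj0, hi1, if_false, hi0, hj1] at hij
        exact hne (h.pts.inj (mul_left_cancel hij))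
    have h1 := Nat.card_le_card_of_injective (fun i => (⟨g i, hg i⟩ : ↥(V ⊓ QQ (z 0))))
      (fun i j hij => hginj (congrArg Subtype.val hij))
    rwa [Nat.card_eq_fintype_card, Fintype.card_fin] at h1
  have h2 : Nat.card ↥(o2 (centralizer ({z 0} : Set G))) ≠ 2 := by
    intro h1
    rw [hQ] at h1
    have h3 := Subgroup.card_le_of_le hE0
    omega
  obtain ⟨n, hn, hX, hc⟩ := exists_extra hL h2
  have hn1 : n ≠ 1 := by
    rintro rfl
    rw [hQ] at hc
    have h3 : Nat.card ↥(V ⊓ QQ (z 0)) ∣ 8 := by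
      have h3 := Subgroup.card_dvd_of_le hE0
      rw [hc] at h3
      exact h3
    have h4 : Nat.card ↥(V ⊓ QQ (z 0)) = 8 := by
      have h6 : Nat.card ↥(V ⊓ QQ (z 0)) ≤ 8 := Nat.le_of_dvd (by norm_num) h3
      generalize Nat.card ↥(V ⊓ QQ (z 0)) = m at hcard5 h3 h6
      interval_cases m <;> omega
    have h5 : V ⊓ QQ (z 0) = QQ (z 0) := Subgroup.eq_of_le_of_card_ge hE0 (by rw [hc, h4]; norm_num)
    apply hnc
    rw [← h5]
    exact inf_le_left
  rcases Nat.lt_or_ge n 5 with hn5 | hn5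
  · interval_cases n
    · exact absurd rfl hn1
    · exact hX.known_two hG hna h59
    · exact hX.known_three hG hna h62
    · exact hX.known_four hG hna h63
  · refine Exit.WeakClosed.known_of_wc hna hL ?_ hwc
    rw [hc]
    exact Nat.pow_le_pow_right (by norm_num) (by omega)

end Cfsg.Agent.Omega.NO1End.Out
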