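import Cfsg.Agent.Omega.NOne.DZeroPts

/-!
# NO-1, END, `q = 2`, type `O₄⁻(2)` (text #12702, step (9)), helper203

Five points `z i`, `Q i` large extraspecial with centre `z i`, `R i = C_{Q i}(V)`.
For `x ∈ Q i ∖ R i` and `j ≠ i`, every element of `x R i` is, modulo `V ∩ Q i`, an `R j`-conjugate of `x`.
-/

set_option autoImplicit false

namespace Cfsg.Agent.Omega.NO1End.Surj

open Subgroup Cfsg.Agent.Co2Type.Quad
open Cfsg.Agent.Omega.NOne.DZero Cfsg.Agent.Omega.NOne.DZeroPts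

variable {G : Type*} [Group G]

/-- Five points, the groups `Q i` are extraspecial. -/
structure Five (M V : Subgroup G) (z : Fin 5 → G) (Q : Fin 5 → Subgroup G) : Prop extends Pts M V z where
  MV : M ≤ normalizer (V : Set G)
  large : ∀ i, Large (Q i) (z i)
  conjQ : ∀ m ∈ M, ∀ i j, m * z i * m⁻¹ = z j → ∀ x ∈ Q i, m * x * m⁻¹ ∈ Q j
  QM : ∀ i, Q i ≤ M
  notMem : ∀ i j, j ≠ i → z j ∉ Q i
  pair : ∀ i j k, j ≠ i → k ≠ i → j ≠ k → z j * z k ∈ Q i
  four : ∀ i, ∀ q ∈ Q i, ∀ σ : Equiv.Perm (Fin 5), (∀ j, q * z j * q⁻¹ = z (σ j)) →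
    (∀ j, j ≠ i → σ j ≠ j ∧ σ (σ j) = j) ∨ σ = 1
  swap : ∀ i j k l m : Fin 5, [i, j, k, l, m].Nodup → ∃ u ∈ Q i, u * z j * u⁻¹ = z k ∧
    u * z k * u⁻¹ = z j ∧ u * z l * u⁻¹ = z m ∧ u * z m * u⁻¹ = z l

namespace Five

variable {M V : Subgroup G} {z : Fin 5 → G} {Q : Fin 5 → Subgroup G} (h : Five M V z Q)
include h

theorem zinv (i : Fin 5) : (z i)⁻¹ = z i := inv_eq_of_mul_eq_one_left (h.sq i)

/-- `V` is commutative -/
theorem Vcomm {v w : G} (hv : v ∈ V) (hw : w ∈ V) : v * w = w * v := by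
  have h1 : ∀ i, ∀ w ∈ V, z i * w = w * z i := by
    intro i w hw
    rcases h.gen w hw with rfl | ⟨a, rfl⟩ | ⟨a, b, -, rfl⟩
    · simp
    · exact h.comm i a
    · calc z i * (z a * z b) = z i * z a * z b := by group
        _ = z a * (z i * z b) := by rw [h.comm i a]; group
        _ = z a * z b * z i := by rw [h.comm i b]; group
  rcases h.gen v hv with rfl | ⟨a, rfl⟩ | ⟨a, b, -, rfl⟩
  · simp
  · exact h1 a w hw
  · calc z a * z b * w = z a * (z b * w) := by group
      _ = z a * w * z b := by rw [h1 b w hw]; group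
      _ = w * (z a * z b) := by rw [h1 a w hw]; group

theorem Vsq {v : G} (hv : v ∈ V) : v * v = 1 := by
  rcases h.gen v hv with rfl | ⟨a, rfl⟩ | ⟨a, b, -, rfl⟩
  · simp
  · exact h.sq a
  · calc z a * z b * (z a * z b) = z a * (z b * z a) * z b := by group
      _ = z a * z a * (z b * z b) := by rw [h.comm b a]; group
      _ = 1 := by rw [h.sq, h.sq, one_mul]

/-- elements which commute with all points centralise `V` -/
theorem cent_of {x : G} (hx : ∀ i, x * z i = z i * x) {v : G} (hv : v ∈ V) : x * v = v * x := by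
  rcases h.gen v hv with rfl | ⟨a, rfl⟩ | ⟨a, b, -, rfl⟩
  · simp
  · exact hx a
  · calc x * (z a * z b) = x * z a * z b := by group
      _ = z a * (x * z b) := by rw [hx a]; group
      _ = z a * z b * x := by rw [hx b]; group

/-- the two possible products -/
theorem pair_inj {a b c d : Fin 5} (hab : a ≠ b) (hcd : c ≠ d) (e : z a * z b = z c * z d) :
    (a = c ∧ b = d) ∨ (a = d ∧ b = c) := by
  by_cases hac : a = c
  · subst hac
    exact Or.inl ⟨rfl, h.inj (mul_left_cancel e)⟩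
  by_cases had : a = d
  · subst had
    rw [h.comm c a] at e
    exact Or.inr ⟨rfl, h.inj (mul_left_cancel e)⟩
  by_cases hbc : b = c
  · subst hbc
    rw [h.comm a b] at e
    exact absurd (h.inj (mul_left_cancel e)) had
  by_cases hbd : b = d
  · subst hbd
    exact absurd (h.inj (mul_right_cancel e)) hac
  exfalso
  obtain ⟨f, hf⟩ := exists_fifth a b c d (by simp [hab, hac, had, hbc, hbd, hcd])
  have h1 := h.prod a b c d f hf
  rw [e, mul_assoc, mul_assoc, ← mul_assoc (z d), h.comm d c, mul_assoc (z c), h.sq d, mul_one,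
    h.sq c] at h1
  exact h.ne_one f h1.symm

/-- an element of `V ∩ Q i` -/
theorem mem_E {i : Fin 5} {e : G} (he : e ∈ V) (heQ : e ∈ Q i) :
    e = 1 ∨ e = z i ∨ ∃ j k, j ≠ i ∧ k ≠ i ∧ j ≠ k ∧ e = z j * z k := by
  have hz := (h.large i).z_mem
  rcases h.gen e he with rfl | ⟨a, rfl⟩ | ⟨a, b, hab, rfl⟩
  · exact Or.inl rfl
  · right; left
    by_contra hne
    exact h.notMem i a (fun h1 => hne (by rw [h1])) heQ
  · right; right
    refine ⟨a, b, ?_, ?_, hab, rfl⟩
    · rintro rfl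
      have h2 := mul_mem hz heQ
      rw [← mul_assoc, h.sq, one_mul] at h2
      exact h.notMem a b (Ne.symm hab) h2
    · rintro rfl
      have h2 := mul_mem heQ hz
      rw [mul_assoc, h.sq, mul_one] at h2
      exact h.notMem b a hab h2

/-- an element of `Q i` which fixes one more point centralises `V` -/
theorem cent_of_fix {i j : Fin 5} (hji : j ≠ i) {q : G} (hq : q ∈ Q i) (hqj : q * z j = z j * q) :
    ∀ v ∈ V, q * v = v * q := by
  obtain ⟨σ, hσ⟩ := h.perm q (h.QM i hq)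
  have hj : σ j = j := h.inj (by rw [← hσ, comm_conj hqj])
  rcases h.four i q hq σ hσ with h1 | h1
  · exact absurd hj (h1 j hji).1
  · intro v hv
    refine h.cent_of (fun k => ?_) hv
    apply conj_comm
    rw [hσ, h1]; rfl

/-- `R i = C_{Q i}(V)` -/
def R (_h : Five M V z Q) (i : Fin 5) : Subgroup G := Q i ⊓ centralizer (V : Set G)

theorem mem_R {i : Fin 5} {x : G} : x ∈ h.R i ↔ x ∈ Q i ∧ ∀ v ∈ V, x * v = v * x := by
  rw [R, mem_inf, mem_centralizer_iff]
  exact and_congr_right fun _ => ⟨fun H y hy => (H y hy).symm, fun H y hy => (H y hy).symm⟩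

theorem cent_R {i : Fin 5} {x : G} (hx : x ∈ h.R i) (j : Fin 5) : x * z j = z j * x :=
  (h.mem_R.1 hx).2 _ (h.mem j)

/-- `M` permutes the `R i` -/
theorem conjR {m : G} (hm : m ∈ M) {i j : Fin 5} (hij : m * z i * m⁻¹ = z j) {x : G} (hx : x ∈ h.R i) :
    m * x * m⁻¹ ∈ h.R j := by
  obtain ⟨h1, h2⟩ := h.mem_R.1 hx
  refine h.mem_R.2 ⟨h.conjQ m hm i j hij x h1, fun v hv => ?_⟩
  have h3 := h2 _ ((mem_normalizer_iff''.1 (h.MV hm) v).1 hv)
  calc m * x * m⁻¹ * v = m * (x * (m⁻¹ * v * m)) * m⁻¹ := by group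
    _ = m * (m⁻¹ * v * m * x) * m⁻¹ := by rw [h3]
    _ = v * (m * x * m⁻¹) := by group

theorem norm_Q {i : Fin 5} {g x : G} (hg : g * z i = z i * g) (hx : x ∈ Q i) : g * x * g⁻¹ ∈ Q i :=
  (h.large i).conj_mem g hg x hx

theorem norm_Q' {i : Fin 5} {g x : G} (hg : g * z i = z i * g) (hx : x ∈ Q i) : g⁻¹ * x * g ∈ Q i := by
  have hg' : g⁻¹ * z i = z i * g⁻¹ := by
    rw [inv_mul_eq_iff_eq_mul, ← mul_assoc, hg, mul_assoc, mul_inv_cancel, mul_one]
  have h1 := h.norm_Q hg' hx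
  rwa [inv_inv] at h1

/-- an element of `Q i` commuting with `R i` lies in `V` -/
theorem mem_V_of_cent {i : Fin 5} {y : G} (hy : y ∈ Q i) (hyR : ∀ r ∈ h.R i, y * r = r * y) : y ∈ V := by
  have hL := h.large i
  obtain ⟨j, k, l, m, hn⟩ : ∃ j k l m : Fin 5, [i, j, k, l, m].Nodup := by
    have : ∀ i : Fin 5, ∃ j k l m : Fin 5, [i, j, k, l, m].Nodup := by decide
    exact this i
  obtain ⟨u, hu, huj, huk, hul, hum⟩ := h.swap i j k l m hn
  have hn2 : [i, j, l, k, m].Nodup := by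
    simp only [List.nodup_cons, List.mem_cons, List.not_mem_nil, or_false, not_or,
      not_false_eq_true, List.nodup_nil, and_true] at hn ⊢
    obtain ⟨⟨h1, h2, h3, h4⟩, ⟨h5, h6, h7⟩, ⟨h8, h9⟩, h10⟩ := hn
    exact ⟨⟨h1, h3, h2, h4⟩, ⟨h6, h5, h7⟩, ⟨Ne.symm h8, h10⟩, h9⟩
  obtain ⟨w, hw, hwj, hwl, hwk, hwm⟩ := h.swap i j l k m hn2
  have hn' := hn
  simp only [List.nodup_cons, List.mem_cons, List.not_mem_nil, or_false, not_or, not_false_eq_true,
    List.nodup_nil, and_true] at hn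
  obtain ⟨⟨hij, hik, hil, him⟩, ⟨hjk, hjl, hjm⟩, ⟨hkl, hkm⟩, hlm⟩ := hn
  -- `V ∩ Q i` realises all sign patterns on `u`, `w`
  have zz : z i * z i = 1 := h.sq i
  have hprod : ∀ a b c d : Fin 5, [i, a, b, c, d].Nodup → z a * z b = z i * (z c * z d) := by
    intro a b c d hn
    have h1 := h.prod i a b c d hn
    rw [← h1]
    have hc := h.comm
    have e1 : z i * (z c * (z i * z a * z b * z c)) = z a * z b := by
      calc z i * (z c * (z i * z a * z b * z c)) = z i * ((z c * z i) * z a * z b * z c) := by group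
        _ = z i * (z i * (z c * z a) * z b * z c) := by rw [hc c i]; group
        _ = z i * (z i * z a * (z c * z b) * z c) := by rw [hc c a]; group
        _ = z i * (z i * z a * z b * (z c * z c)) := by rw [hc c b]; group
        _ = z i * z i * (z a * z b) := by rw [h.sq c]; group
        _ = z a * z b := by rw [zz, one_mul]
    exact e1.symm
  have hju : u * (z j * z l) * u⁻¹ = z i * (z j * z l) := by
    calc u * (z j * z l) * u⁻¹ = (u * z j * u⁻¹) * (u * z l * u⁻¹) := by group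
      _ = z k * z m := by rw [huj, hul]
      _ = z i * (z j * z l) := hprod k m j l (by
        simp [hik, him, hij, hil, hkm, Ne.symm hjk, hkl, Ne.symm hjm, Ne.symm hlm, hjl])
  have hjw : w * (z j * z l) * w⁻¹ = z j * z l := by
    calc w * (z j * z l) * w⁻¹ = (w * z j * w⁻¹) * (w * z l * w⁻¹) := by group
      _ = z j * z l := by rw [hwj, hwl, h.comm]
  have hku : u * (z j * z k) * u⁻¹ = z j * z k := by
    calc u * (z j * z k) * u⁻¹ = (u * z j * u⁻¹) * (u * z k * u⁻¹) := by group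
      _ = z j * z k := by rw [huj, huk, h.comm]
  have hkw : w * (z j * z k) * w⁻¹ = z i * (z j * z k) := by
    calc w * (z j * z k) * w⁻¹ = (w * z j * w⁻¹) * (w * z k * w⁻¹) := by group
      _ = z l * z m := by rw [hwj, hwk]
      _ = z i * (z j * z k) := hprod l m j k (by
        simp [hil, him, hij, hik, hlm, Ne.symm hjl, Ne.symm hkl, Ne.symm hjm, Ne.symm hkm, hjk])
  have hiz : ∀ x ∈ Q i, x * z i = z i * x := hL.comm_z
  -- signs
  have sgn : ∀ q ∈ Q i, ∀ x ∈ Q i, q * x * q⁻¹ = x ∨ q * x * q⁻¹ = z i * x := by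
    intro q hq x hx
    rcases hL.comm q hq x hx with h1 | h1
    · exact Or.inl (comm_conj h1)
    · right
      rw [h1, hiz _ (mul_mem hx hq)]; group
  have mulsgn : ∀ q ∈ Q i, ∀ a b, ∀ s t : G, q * a * q⁻¹ = s * a → q * b * q⁻¹ = t * b → a ∈ Q i →
      (t = 1 ∨ t = z i) → q * (a * b) * q⁻¹ = s * t * (a * b) := by
    intro q hq a b s t ha hb haQ ht
    calc q * (a * b) * q⁻¹ = (q * a * q⁻¹) * (q * b * q⁻¹) := by group
      _ = s * (a * t) * b := by rw [ha, hb]; group
      _ = s * (t * a) * b := by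
        rcases ht with rfl | rfl
        · simp
        · rw [hiz a haQ]
      _ = s * t * (a * b) := by group
  -- if `u`, `w` and `R i` commute with `y'` then `y' ∈ ⟨z i⟩`
  have gen : ∀ y' ∈ Q i, u * y' * u⁻¹ = y' → w * y' * w⁻¹ = y' → (∀ r ∈ h.R i, y' * r = r * y') →
      y' ∈ V := by
    intro y' hy' h1 h2 h3
    have h4 : y' = 1 ∨ y' = z i := by
      refine hL.cent y' hy' fun x hx => ?_
      obtain ⟨σ, hσ⟩ := h.perm x (h.QM i hx)
      -- `x ∈ {1, u, w, u w} R i`
      have hxj : ∀ a ∈ Q i, a * z j * a⁻¹ = x * z j * x⁻¹ → (y' * a = a * y') → y' * x = x * y' := by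
        intro a ha e1 e2
        have h5 : a⁻¹ * x ∈ h.R i := by
          refine h.mem_R.2 ⟨mul_mem (inv_mem ha) hx, ?_⟩
          refine h.cent_of_fix (Ne.symm hij) (mul_mem (inv_mem ha) hx) ?_
          have e3 : a⁻¹ * x * z j * (a⁻¹ * x)⁻¹ = z j := by
            calc a⁻¹ * x * z j * (a⁻¹ * x)⁻¹ = a⁻¹ * (x * z j * x⁻¹) * a := by group
              _ = a⁻¹ * (a * z j * a⁻¹) * a := by rw [e1]
              _ = z j := by group
          exact conj_comm e3
        have h6 := h3 _ h5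
        calc y' * x = y' * a * (a⁻¹ * x) := by group
          _ = a * (y' * (a⁻¹ * x)) := by rw [e2]; group
          _ = a * (a⁻¹ * x * y') := by rw [h6]
          _ = x * y' := by group
      have hu' : y' * u = u * y' := (conj_comm h1).symm
      have hw' : y' * w = w * y' := (conj_comm h2).symm
      rcases h.four i x hx σ hσ with h5 | h5
      · have hσj : σ j ≠ j := (h5 j (Ne.symm hij)).1
        have hσi : σ j ≠ i := by
          intro h6
          have h7 : σ i = i := h.inj (by rw [← hσ, comm_conj (hiz x hx)])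
          exact hij (σ.injective (h7.trans h6.symm))
        have hcase : ∀ i j k l m : Fin 5, [i, j, k, l, m].Nodup → ∀ n, n ≠ i → n ≠ j →
            n = k ∨ n = l ∨ n = m := by decide
        rcases hcase i j k l m hn' _ hσi hσj with h6 | h6 | h6
        · exact hxj u hu (by rw [huj, hσ, h6]) hu'
        · exact hxj w hw (by rw [hwj, hσ, h6]) hw'
        · refine hxj (u * w) (mul_mem hu hw) ?_ ?_
          · calc u * w * z j * (u * w)⁻¹ = u * (w * z j * w⁻¹) * u⁻¹ := by group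
              _ = x * z j * x⁻¹ := by rw [hwj, hul, hσ, h6]
          · calc y' * (u * w) = y' * u * w := by group
              _ = u * (y' * w) := by rw [hu']; group
              _ = u * w * y' := by rw [hw']; group
      · exact hxj 1 (one_mem _) (by rw [hσ, h5]; simp) (by simp)
    rcases h4 with rfl | rfl
    · exact one_mem _
    · exact h.mem i
  have hE1 : z j * z l ∈ Q i := h.pair i j l (Ne.symm hij) (Ne.symm hil) hjl
  have hE2 : z j * z k ∈ Q i := h.pair i j k (Ne.symm hij) (Ne.symm hik) hjk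
  have hV1 : z j * z l ∈ V := mul_mem (h.mem j) (h.mem l)
  have hV2 : z j * z k ∈ V := mul_mem (h.mem j) (h.mem k)
  -- multiply by an element of `V ∩ Q i`
  have step : ∀ e ∈ V, e ∈ Q i → u * (e * y) * u⁻¹ = e * y → w * (e * y) * w⁻¹ = e * y → y ∈ V := by
    intro e he heQ h1 h2
    have h3 := gen (e * y) (mul_mem heQ hy) h1 h2 (fun r hr => by
      have h4 := (h.mem_R.1 hr).2 e he
      calc e * y * r = e * (y * r) := by group
        _ = (e * r) * y := by rw [hyR r hr]; group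
        _ = r * (e * y) := by rw [← h4]; group)
    have h5 := mul_mem (inv_mem he) h3
    rwa [inv_mul_cancel_left] at h5
  have one' : ∀ a : G, (1 : G) * a = a := one_mul
  rcases sgn u hu y hy with h1 | h1 <;> rcases sgn w hw y hy with h2 | h2
  · exact step 1 (one_mem _) (one_mem _) (by rw [one_mul, h1]) (by rw [one_mul, h2])
  · refine step (z j * z k) hV2 hE2 ?_ ?_
    · rw [mulsgn u hu _ _ 1 1 (by rw [hku, one_mul]) (by rw [h1, one_mul]) hE2 (Or.inl rfl)]
      rw [one_mul, one_mul]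
    · rw [mulsgn w hw _ _ (z i) (z i) hkw h2 hE2 (Or.inr rfl), zz, one_mul]
  · refine step (z j * z l) hV1 hE1 ?_ ?_
    · rw [mulsgn u hu _ _ (z i) (z i) hju h1 hE1 (Or.inr rfl), zz, one_mul]
    · rw [mulsgn w hw _ _ 1 1 (by rw [hjw, one_mul]) (by rw [h2, one_mul]) hE1 (Or.inl rfl)]
      rw [one_mul, one_mul]
  · refine step (z j * z k * (z j * z l)) (mul_mem hV2 hV1) (mul_mem hE2 hE1) ?_ ?_
    · have e1 := mulsgn u hu (z j * z k) (z j * z l) 1 (z i) (by rw [hku, one_mul]) hju hE2 (Or.inr rfl)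
      rw [mulsgn u hu _ _ (1 * z i) (z i) e1 h1 (mul_mem hE2 hE1) (Or.inr rfl), one_mul, zz, one_mul]
    · have e1 := mulsgn w hw (z j * z k) (z j * z l) (z i) 1 hkw (by rw [hjw, one_mul]) hE2 (Or.inl rfl)
      rw [mulsgn w hw _ _ (z i * 1) (z i) e1 h2 (mul_mem hE2 hE1) (Or.inr rfl), mul_one, zz, one_mul]

/-- `R i ∩ R j ≤ V` -/
theorem R_inf {i j : Fin 5} (hij : i ≠ j) {y : G} (h1 : y ∈ h.R i) (h2 : y ∈ h.R j) : y ∈ V := by
  refine h.mem_V_of_cent (h.mem_R.1 h1).1 fun r hr => ?_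
  rcases (h.large i).comm y (h.mem_R.1 h1).1 r (h.mem_R.1 hr).1 with h3 | h3
  · exact h3
  exfalso
  -- `z i ∈ Q j`
  apply h.notMem j i hij
  have h4 := h.norm_Q (h.cent_R hr j) (inv_mem (h.mem_R.1 h2).1)
  have h5 := mul_mem (h.mem_R.1 h2).1 h4
  have e : y * (r * y⁻¹ * r⁻¹) = z i := by
    calc y * (r * y⁻¹ * r⁻¹) = y * r * y⁻¹ * r⁻¹ := by group
      _ = r * y * (z i * y⁻¹) * r⁻¹ := by rw [h3]; group
      _ = r * y * (y⁻¹ * z i) * r⁻¹ := by
        rw [(h.large i).comm_z _ (inv_mem (h.mem_R.1 h1).1)]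
      _ = r * z i * r⁻¹ := by group
      _ = z i := comm_conj (h.cent_R hr i)
  rwa [e] at h5

end Five

end Cfsg.Agent.Omega.NO1End.Surj
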